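import Groth.Agent.DefTan29.Pi
import Groth.Agent.DefTan29.ExtClass

/-!
The extension of the cocycles of a cover by the structure sheaf.
-/

universe u

open CategoryTheory CategoryTheory.Limits AlgebraicGeometry TopologicalSpace Opposite Abelian

set_option backward.isDefEq.respectTransparency false
set_option backward.isDefEq.respectTransparency.types false

noncomputable section

namespace Groth.Agent.DefFin29

open Groth.Agent.AModX Groth.Agent.DefTan29 Scheme

variable {X : Scheme.{u}} {ι : Type u} (U : ι → X.Opens)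

/-- The opens of pairs. -/
abbrev U2 (p : ι × ι) : X.Opens := U p.1 ⊓ U p.2

/-- Families of functions on the members. -/
abbrev C0 : X.Modules := Pi (Coh.structureModule X) U

/-- Families of functions on the pairs. -/
abbrev C1 : X.Modules := Pi (Coh.structureModule X) (U2 U)

/-- The coboundary. -/
def cob : C0 U ⟶ C1 U where
  val := PresheafOfModules.homMk
    { app := fun W => AddCommGrpCat.ofHom (AddMonoidHom.mk'
        (fun a => ofFam fun p : ι × ι => res _ (inf_le_inf_left W.unop inf_le_right) (toFam a p.2) -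
          res _ (inf_le_inf_left W.unop inf_le_left) (toFam a p.1))
        fun a b => funext fun p => by
          show res _ _ (toFam a p.2 + toFam b p.2) - res _ _ (toFam a p.1 + toFam b p.1) = _
          rw [map_add, map_add, add_sub_add_comm]
          rfl)
      naturality := fun W W' i => by
        ext a
        refine funext fun p => ?_
        show res _ _ (res _ _ (toFam a p.2)) - res _ _ (res _ _ (toFam a p.1)) =
          res _ _ (res _ _ (toFam a p.2) - res _ _ (toFam a p.1))
        rw [map_sub, res_res, res_res, res_res, res_res] }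
    fun W r a => funext fun p => by
      show res (Coh.structureModule X) (inf_le_inf_left W.unop (inf_le_right : U2 U p ≤ U p.2))
            (rU U W.unop p.2 (show Γ(X, W.unop) from r) • toFam a p.2) -
          res (Coh.structureModule X) (inf_le_inf_left W.unop (inf_le_left : U2 U p ≤ U p.1))
            (rU U W.unop p.1 (show Γ(X, W.unop) from r) • toFam a p.1) =
        rU (U2 U) W.unop p (show Γ(X, W.unop) from r) •
          (res (Coh.structureModule X) (inf_le_inf_left W.unop (inf_le_right : U2 U p ≤ U p.2)) (toFam a p.2) -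
          res (Coh.structureModule X) (inf_le_inf_left W.unop (inf_le_left : U2 U p ≤ U p.1)) (toFam a p.1))
      rw [res_smul, res_smul, resR_resR, resR_resR, smul_sub]

theorem cob_apply {W : X.Opens} (a : Γ(C0 U, W)) (i j : ι) :
    toFam ((cob U).app W a) (i, j) = res _ (inf_le_inf_left W inf_le_right) (toFam a j) -
      res _ (inf_le_inf_left W inf_le_left) (toFam a i) := rfl

/-- The open of a triple. -/
abbrev U3 (i j l : ι) : X.Opens := U i ⊓ U j ⊓ U l

/-- The cocycle condition. -/
def IsCoc {W : X.Opens} (c : Γ(C1 U, W)) : Prop :=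
  ∀ i j l : ι, res _ (inf_le_inf_left W (le_inf (inf_le_left.trans inf_le_left) inf_le_right) :
      W ⊓ U3 U i j l ≤ W ⊓ U2 U (i, l)) (toFam c (i, l)) =
    res _ (inf_le_inf_left W inf_le_left : W ⊓ U3 U i j l ≤ W ⊓ U2 U (i, j)) (toFam c (i, j)) +
      res _ (inf_le_inf_left W (le_inf (inf_le_left.trans inf_le_right) inf_le_right) :
        W ⊓ U3 U i j l ≤ W ⊓ U2 U (j, l)) (toFam c (j, l))

/-- Cocycles. -/
def cocs : QCoh.SubMod (C1 U) where
  mem W :=
    { carrier := {c | IsCoc U c}
      zero_mem' := fun i j l => by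
        show res _ _ (0 : Γ(Coh.structureModule X, W ⊓ U2 U (i, l))) = res _ _ 0 + res _ _ 0
        simp
      add_mem' := fun {c d} hc hd i j l => by
        show res _ _ (toFam c (i, l) + toFam d (i, l)) =
          res _ _ (toFam c (i, j) + toFam d (i, j)) + res _ _ (toFam c (j, l) + toFam d (j, l))
        rw [map_add, map_add, map_add, hc i j l, hd i j l, add_add_add_comm]
      smul_mem' := fun r c hc i j l => by
        show res (Coh.structureModule X) (inf_le_inf_left W (le_inf (inf_le_left.trans inf_le_left) inf_le_right) :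
              W ⊓ U3 U i j l ≤ W ⊓ U2 U (i, l)) (rU (U2 U) W (i, l) r • toFam c (i, l)) =
          res (Coh.structureModule X) (inf_le_inf_left W inf_le_left : W ⊓ U3 U i j l ≤ W ⊓ U2 U (i, j))
              (rU (U2 U) W (i, j) r • toFam c (i, j)) +
            res (Coh.structureModule X) (inf_le_inf_left W (le_inf (inf_le_left.trans inf_le_right) inf_le_right) :
              W ⊓ U3 U i j l ≤ W ⊓ U2 U (j, l)) (rU (U2 U) W (j, l) r • toFam c (j, l))
        rw [res_smul, res_smul, res_smul, resR_resR, resR_resR, resR_resR, hc i j l, smul_add] }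
  map_mem {W W'} h c hc i j l := by
    show res _ _ (res _ _ (toFam c (i, l))) = res _ _ (res _ _ (toFam c (i, j))) + res _ _ (res _ _ (toFam c (j, l)))
    rw [res_res, res_res, res_res]
    have := congrArg (res _ (inf_le_inf_right _ h : W' ⊓ U3 U i j l ≤ W ⊓ U3 U i j l)) (hc i j l)
    rw [map_add, res_res, res_res, res_res] at this
    exact this
  of_locally W c hc i j l := AModX.eq_of_locally _ _ fun p hp => by
    obtain ⟨W', h, hpW', hW'⟩ := hc p hp.1
    refine ⟨W' ⊓ U3 U i j l, inf_le_inf_right _ h, ⟨hpW', hp.2⟩, ?_⟩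
    have := hW' i j l
    rw [map_add, res_res, res_res, res_res]
    exact ((res_res _ _ _).symm.trans this).trans (congrArg₂ (· + ·) (res_res _ _ _) (res_res _ _ _))

/-- The sheaf of cocycles. -/
abbrev Zc : X.Modules := (cocs U).toModules

/-- A cocycle as a family. -/
abbrev zv {W : X.Opens} (c : Γ(Zc U, W)) : Γ(C1 U, W) := (cocs U).ι.app W c

theorem isCoc_cob {W : X.Opens} (a : Γ(C0 U, W)) : IsCoc U ((cob U).app W a) := fun i j l => by
  simp only [cob_apply, map_sub, res_res]
  abel

/-- The coboundary into cocycles. -/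
def cobZ : C0 U ⟶ Zc U where
  val := PresheafOfModules.homMk
    { app := fun W => AddCommGrpCat.ofHom (AddMonoidHom.mk'
        (fun a => (⟨(cob U).app W.unop a, isCoc_cob U a⟩ : (cocs U).mem W.unop))
        fun a b => Subtype.ext (map_add ((cob U).app W.unop).hom a b))
      naturality := fun W W' i => by
        ext a
        exact Subtype.ext (app_res (cob U) i.unop.le a) }
    fun W r a => Subtype.ext (Scheme.Modules.Hom.app_smul (cob U) _ _)

theorem zv_cobZ {W : X.Opens} (a : Γ(C0 U, W)) : zv U ((cobZ U).app W a) = (cob U).app W a := rfl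

theorem incl_cobZ : incl (Coh.structureModule X) U ≫ cobZ U = 0 := by
  refine Scheme.Modules.hom_ext _ _ fun W => ?_
  ext s
  refine Subtype.ext (funext fun p => ?_)
  show res _ _ (res _ _ s) - res _ _ (res _ _ s) = 0
  rw [res_res, res_res, sub_self]

/-- The extension of cocycles by functions. -/
def cseq : ShortComplex X.Modules :=
  ShortComplex.mk (incl (Coh.structureModule X) U) (cobZ U) (incl_cobZ U)

theorem cseq_shortExact (hU : iSup U = ⊤) : (cseq U).ShortExact := by
  have hmem : ∀ p : X, ∃ m, p ∈ U m := fun p => Opens.mem_iSup.1 (hU.ge (Set.mem_univ p))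
  refine { exact := ?_, mono_f := ?_, epi_g := ?_ }
  · refine RelTildeX.exact_of_locally _ fun W a ha x hx => ?_
    obtain ⟨m, hm⟩ := hmem x
    refine ⟨W ⊓ U m, inf_le_left, ⟨hx, hm⟩, toFam a m, funext fun i => ?_⟩
    show res _ _ (toFam a m) = res _ _ (toFam a i)
    have h1 := congrFun (congrArg (zv U) ha) (m, i)
    have h2 : res _ (inf_le_inf_left W inf_le_right) (toFam a i) =
        res _ (inf_le_inf_left W inf_le_left : W ⊓ U2 U (m, i) ≤ W ⊓ U m) (toFam a m) := sub_eq_zero.1 h1
    have h3 := congrArg (res (Coh.structureModule X)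
      (le_inf (inf_le_left.trans inf_le_left) (le_inf (inf_le_left.trans inf_le_right) inf_le_right) :
        (W ⊓ U m) ⊓ U i ≤ W ⊓ U2 U (m, i))) h2
    rw [res_res, res_res] at h3
    exact h3.symm
  · refine QCoh.mono_of_app_injective _ fun W s t hst => AModX.eq_of_locally _ _ fun p hp => ?_
    obtain ⟨m, hm⟩ := hmem p
    exact ⟨W ⊓ U m, inf_le_left, ⟨hp, hm⟩, congrFun hst m⟩
  · refine RelTildeX.epi_of_locally _ fun W c x hx => ?_
    obtain ⟨m, hm⟩ := hmem x
    refine ⟨W ⊓ U m, inf_le_left, ⟨hx, hm⟩, ofFam fun i => res _ (le_inf (inf_le_left.trans inf_le_left)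
      (le_inf (inf_le_left.trans inf_le_right) inf_le_right) :
      (W ⊓ U m) ⊓ U i ≤ W ⊓ U2 U (m, i)) (toFam (zv U c) (m, i)), Subtype.ext (funext fun p => ?_)⟩
    obtain ⟨i, j⟩ := p
    show res _ _ (res _ _ (toFam (zv U c) (m, j))) - res _ _ (res _ _ (toFam (zv U c) (m, i))) =
      res _ _ (toFam (zv U c) (i, j))
    rw [res_res, res_res, sub_eq_iff_eq_add']
    have h := congrArg (res (Coh.structureModule X) (le_inf (inf_le_left.trans inf_le_left)
      (le_inf (le_inf (inf_le_left.trans inf_le_right) (inf_le_right.trans inf_le_left))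
        (inf_le_right.trans inf_le_right)) : (W ⊓ U m) ⊓ U2 U (i, j) ≤ W ⊓ U3 U m i j))
      ((cocs U).ι_app_mem W c m i j)
    rw [map_add, res_res, res_res, res_res] at h
    exact h

variable [HasExt.{u} X.Modules] {k : Type u} [Field k] [X.Over (Spec (CommRingCat.of k))] (M : X.Modules)
  (hU : iSup U = ⊤)

/-- The class of a cocycle. -/
def kap : (M ⟶ Zc U) →ₗ[k] Ext.{u} M (Coh.structureModule X) 1 where
  toFun α := (Ext.mk₀ α).comp (cseq_shortExact U hU).extClass (zero_add 1)
  map_add' α β := by rw [Ext.mk₀_add, Ext.add_comp]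
  map_smul' c α := by rw [Ext.mk₀_smul, Ext.smul_comp]; rfl

theorem exists_of_kap_eq_zero {α : M ⟶ Zc U} (h : kap (k := k) U M hU α = 0) :
    ∃ φ : M ⟶ C0 U, φ ≫ cobZ U = α := by
  obtain ⟨y, hy⟩ := Ext.covariant_sequence_exact₃ _ (cseq_shortExact U hU) (Ext.mk₀ α) (zero_add 1) h
  obtain ⟨φ, rfl⟩ := (Ext.addEquiv₀).symm.surjective y
  refine ⟨φ, Ext.addEquiv₀.symm.injective ?_⟩
  exact (Ext.mk₀_comp_mk₀ φ (cobZ U)).symm.trans hy

end Groth.Agent.DefFin29
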