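import Groth.Agent.DefFin29.Rel
import Groth.Agent.DefTan29.Surj

/-!
Lifts exist over affine opens, since the target is smooth.
-/

universe u

open CategoryTheory CategoryTheory.Limits AlgebraicGeometry TopologicalSpace Opposite IsLocalRing

set_option backward.isDefEq.respectTransparency false
set_option backward.isDefEq.respectTransparency.types false

noncomputable section

namespace Groth.Agent.DefFin29

open Groth.Agent.AModX Groth.Agent.DefGlueLib Groth.Agent.DefTan29 Groth.Agent.HomTan29 Scheme ArtFun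

variable {k : Type u} [Field k] {X P : Scheme.{u}} [X.Over (Spec (CommRingCat.of k))]
  [QuasiSeparated (xk k X)] {y : P ⟶ Art.specPt k} {c : X ⟶ P} {C : Art k k}

theorem kst_res {Z : Scheme.{u}} (z : Z ⟶ Art.specPt k) {V V' : Z.Opens} (h : V' ≤ V) (t : k) :
    rs h (kst Z z V t) = kst Z z V' t :=
  ConcreteCategory.congr_hom (Scheme.Hom.appLE_map z (U := ⊤) le_top (homOfLE h).op) _

theorem appLE_kst (hc : c ≫ y = xk k X) (V : P.Opens) (T : AffineZariskiSite X) (h : T.toOpens ≤ c ⁻¹ᵁ V) (t : k) :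
    (c.appLE V T.toOpens h).hom (kst P y V t) = str (xk k X) T t := by
  have h1 : y.appLE ⊤ V le_top ≫ c.appLE V T.toOpens h = (xk k X).appLE ⊤ T.toOpens le_top := by
    rw [Scheme.Hom.appLE_comp_appLE]
    simp only [hc]
  exact ConcreteCategory.congr_hom h1 ((Scheme.ΓSpecIso (CommRingCat.of k)).inv t)

section Pull

variable {Z Z' : Scheme.{u}} {S S' : CommRingCat.{u}}

/-- Functions pulled back to an affine scheme. -/
def pW (m : Spec S ⟶ Z) (W : Z.Opens) (h : ∀ z, m z ∈ W) : Γ(Z, W) ⟶ S :=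
  m.appLE W ⊤ (fun z _ => h z) ≫ (Scheme.ΓSpecIso S).hom

theorem pW_congr {m m' : Spec S ⟶ Z} (e : m = m') (W : Z.Opens) (h : ∀ z, m z ∈ W) (h' : ∀ z, m' z ∈ W) :
    pW m W h = pW m' W h' := by
  subst e
  rfl

theorem pW_res (m : Spec S ⟶ Z) {W W' : Z.Opens} (hW : W' ≤ W) (h : ∀ z, m z ∈ W) (h' : ∀ z, m z ∈ W') :
    Z.presheaf.map (homOfLE hW).op ≫ pW m W' h' = pW m W h := by
  rw [pW, pW, Scheme.Hom.map_appLE_assoc]

theorem pW_SpecMap (φ : S ⟶ S') (m : Spec S ⟶ Z) (W : Z.Opens) (h : ∀ z, m z ∈ W)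
    (h' : ∀ z, (Spec.map φ ≫ m) z ∈ W) : pW (Spec.map φ ≫ m) W h' = pW m W h ≫ φ := by
  rw [pW, pW, Category.assoc, ← Scheme.ΓSpecIso_naturality, ← Category.assoc]
  refine congrArg (· ≫ (Scheme.ΓSpecIso S').hom) ?_
  rw [← Scheme.Hom.appLE_comp_appLE (Spec.map φ) m W ⊤ ⊤ (fun z _ => h z) le_top]
  refine congrArg (m.appLE W ⊤ _ ≫ ·) ?_
  exact Scheme.Hom.appLE_eq_app _

theorem pW_comp (m : Spec S ⟶ Z) (g : Z ⟶ Z') (W : Z.Opens) (W' : Z'.Opens) (e : W ≤ g ⁻¹ᵁ W')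
    (h : ∀ z, m z ∈ W) (h' : ∀ z, (m ≫ g) z ∈ W') :
    pW (m ≫ g) W' h' = g.appLE W' W e ≫ pW m W h := by
  rw [pW, pW, ← Category.assoc, Scheme.Hom.appLE_comp_appLE]

theorem pW_fromSpec {T : Z.Opens} (hT : IsAffineOpen T) (h : ∀ z, hT.fromSpec z ∈ T) :
    pW hT.fromSpec T h = 𝟙 _ := by
  rw [pW, Scheme.Hom.appLE, IsAffineOpen.fromSpec_app_self]
  simp only [Category.assoc]
  rw [← Functor.map_comp_assoc]
  refine (congrArg (fun e : op (⊤ : (Spec Γ(Z, T)).Opens) ⟶ op (⊤ : (Spec Γ(Z, T)).Opens) =>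
    (Scheme.ΓSpecIso Γ(Z, T)).inv ≫ (Spec Γ(Z, T)).presheaf.map e ≫ (Scheme.ΓSpecIso Γ(Z, T)).hom)
    (Subsingleton.elim _ (𝟙 _))).trans ?_
  rw [CategoryTheory.Functor.map_id, Category.id_comp, Iso.inv_hom_id]

theorem pW_id_top {R : CommRingCat.{u}} (h : ∀ z, (𝟙 (Spec R) : Spec R ⟶ Spec R) z ∈ (⊤ : (Spec R).Opens)) :
    pW (𝟙 (Spec R)) ⊤ h = (Scheme.ΓSpecIso R).hom := by
  rw [pW, Scheme.Hom.appLE]
  simp

end Pull

theorem exists_liftF [Smooth y] (hc : c ≫ y = xk k X) {V : P.Opens} (hV : IsAffineOpen V)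
    (hU : IsAffineOpen (c ⁻¹ᵁ V)) (ξ : DefSch X (xk k X) C) : Nonempty (LiftF y c (ofSch ξ) (c ⁻¹ᵁ V)) := by
  let U : AffineZariskiSite X := ⟨c ⁻¹ᵁ V, hU⟩
  let D := ofSch ξ
  have hsm : RingHom.Smooth (kst P y V) := by
    have h := (HasRingHomProperty.iff_appLE (P := @Smooth) (f := y)).1 inferInstance
      ⟨⊤, isAffineOpen_top _⟩ ⟨V, hV⟩ le_top
    exact RingHom.Smooth.respectsIso.2 _ (Scheme.ΓSpecIso (CommRingCat.of k)).symm.commRingCatIsoToRingEquiv h
  obtain ⟨s, hs, hsc⟩ := exists_lift (kst P y V) hsm ((D.a (op U)).comp (algebraMap k C)) (D.qU U).hom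
    (map_qU_surjective D U) (isNilpotent_ker_q (D.isDef (op U))) (c.appLE V (c ⁻¹ᵁ V) le_rfl).hom fun t =>
      ((D.isDef (op U)).comm _).trans ((congrArg (str (xk k X) U) (C.res.commutes t)).trans
        (appLE_kst hc V U le_rfl t).symm)
  let ρ : ∀ T : AffineZariskiSite X, T.toOpens ≤ c ⁻¹ᵁ V → (D.R.obj (op U) ⟶ D.R.obj (op T)) := fun T hT =>
    ξ.total.presheaf.map (homOfLE (imOpen_mono ξ hT)).op
  let m : ∀ T : AffineZariskiSite X, T.toOpens ≤ c ⁻¹ᵁ V → (Spec (D.R.obj (op T)) ⟶ P) := fun T hT =>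
    Spec.map (CommRingCat.ofHom s ≫ ρ T hT) ≫ hV.fromSpec
  have hq : ∀ T (hT : T.toOpens ≤ c ⁻¹ᵁ V), Spec.map (D.qU T) ≫ m T hT = T.2.fromSpec ≫ c := fun T hT => by
    rw [← Category.assoc, ← Spec.map_comp, ← IsAffineOpen.SpecMap_appLE_fromSpec c hV T.2 hT]
    refine congrArg (· ≫ hV.fromSpec) (congrArg Spec.map ?_)
    have e1 : ρ T hT ≫ D.qU T = D.qU U ≫ X.presheaf.map (homOfLE hT).op :=
      (Scheme.Hom.map_appLE ξ.i _ _).trans (Scheme.Hom.appLE_map ξ.i (preimage_imOpen ξ _).ge _).symm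
    rw [Category.assoc, e1, ← Category.assoc, ← Scheme.Hom.appLE_map c (le_refl (c ⁻¹ᵁ V)) (homOfLE hT).op]
    exact congrArg (· ≫ X.presheaf.map (homOfLE hT).op) (CommRingCat.hom_ext (RingHom.ext hs))
  have hmem : ∀ (W : P.Opens) T (hT : T.toOpens ≤ c ⁻¹ᵁ V), T.toOpens ≤ c ⁻¹ᵁ W → ∀ z, m T hT z ∈ W := by
    intro W T hT hW z
    have hcl : IsClosedImmersion (Spec.map (D.qU T)) :=
      IsClosedImmersion.spec_of_surjective _ (map_qU_surjective D T)
    obtain ⟨n, hn⟩ := isNilpotent_ker_q (D.isDef (op T))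
    have hz : z ∈ Set.range (PrimeSpectrum.comap (D.qU T).hom) :=
      (Set.ext_iff.1 (_root_.range_comap_of_surjective _ _ (map_qU_surjective D T)) z).2 fun r hr =>
        z.2.mem_of_pow_mem n (by
          have h0 : r ^ n = 0 := Ideal.mem_bot.1 (hn.le (Ideal.pow_mem_pow hr n))
          rw [h0]
          exact z.asIdeal.zero_mem)
    obtain ⟨z', rfl⟩ := hz
    show (Spec.map (D.qU T) ≫ m T hT) z' ∈ W
    rw [hq T hT]
    exact hW (T.2.range_fromSpec.le ⟨z', rfl⟩)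
  refine ⟨{
    f := fun W T hT hW => (pW (m T hT) W (hmem W T hT hW)).hom
    q_f := fun W T hT hW a => ?_
    nat := fun {W W'} hWW {T T'} hTT hT hW hT' hW' a => ?_
    const := fun T hT hW t => ?_ }⟩
  · have hr : ∀ z, T.2.fromSpec z ∈ T.toOpens := fun z => T.2.range_fromSpec.le ⟨z, rfl⟩
    have e : pW (m T hT) W (hmem W T hT hW) ≫ D.qU T = c.appLE W T.toOpens hW := by
      rw [← pW_SpecMap (D.qU T) (m T hT) W _ (fun z => hmem W T hT hW _),
        pW_congr (hq T hT) W _ (fun z => hW (hr z)), pW_comp _ c T.toOpens W hW hr, pW_fromSpec, Category.comp_id]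
    exact ConcreteCategory.congr_hom e a
  · have em : m T' hT' = Spec.map (D.R.map (homOfLE hTT).op) ≫ m T hT := by
      rw [← Category.assoc, ← Spec.map_comp, Category.assoc]
      exact congrArg (fun φ => Spec.map (CommRingCat.ofHom s ≫ φ) ≫ hV.fromSpec) (ξ.total.presheaf.map_comp _ _)
    have e : pW (m T hT) W (hmem W T hT hW) ≫ D.R.map (homOfLE hTT).op =
        P.presheaf.map (homOfLE hWW).op ≫ pW (m T' hT') W' (hmem W' T' hT' hW') := by
      rw [pW_res _ hWW (fun z => hWW (hmem W' T' hT' hW' z)), pW_congr em _ _ (fun z => hmem W T hT hW _),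
        pW_SpecMap _ _ _ (hmem W T hT hW)]
    exact ConcreteCategory.congr_hom e a
  · have ey : m T hT ≫ y = Spec.map (CommRingCat.ofHom ((D.a (op T)).comp (algebraMap k C))) ≫ 𝟙 _ := by
      have h := IsAffineOpen.SpecMap_appLE_fromSpec y (isAffineOpen_top (Art.specPt k)) hV le_top
      rw [IsAffineOpen.fromSpec_top, Scheme.isoSpec_Spec_inv] at h
      rw [Category.assoc, ← h, Category.comp_id, ← Category.assoc, ← Spec.map_comp, ← Spec.map_comp]
      refine congrArg Spec.map (CommRingCat.hom_ext (RingHom.ext fun t => ?_))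
      show (ρ T hT).hom (s (kst P y V t)) = D.a (op T) (algebraMap k C t)
      rw [hsc]
      exact ConcreteCategory.congr_hom (Scheme.Hom.appLE_map ξ.f (U := ⊤) le_top
        (homOfLE (imOpen_mono ξ hT)).op) _
    have e : y.appLE ⊤ ⊤ le_top ≫ pW (m T hT) ⊤ (hmem ⊤ T hT hW) =
        (Scheme.ΓSpecIso (CommRingCat.of k)).hom ≫
          CommRingCat.ofHom ((D.a (op T)).comp (algebraMap k C)) := by
      rw [← pW_comp _ y ⊤ ⊤ le_top (hmem ⊤ T hT hW) (fun z => TopologicalSpace.Opens.mem_top _), pW_congr ey ⊤ _ (fun z => TopologicalSpace.Opens.mem_top _),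
        pW_SpecMap _ _ _ (fun z => TopologicalSpace.Opens.mem_top _), pW_id_top]
    have e' := ConcreteCategory.congr_hom e ((Scheme.ΓSpecIso (CommRingCat.of k)).inv t)
    refine e'.trans (congrArg (fun a => D.a (op T) (algebraMap k C a)) ?_)
    exact ConcreteCategory.congr_hom (Scheme.ΓSpecIso (CommRingCat.of k)).inv_hom_id t

end Groth.Agent.DefFin29
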