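import Groth.Agent.HomTan29.Deriv

/-!
Derivations along a morphism with values in a module are maps out of the pulled back differentials.
-/

universe u

open CategoryTheory CategoryTheory.Limits AlgebraicGeometry TopologicalSpace Opposite

set_option backward.isDefEq.respectTransparency false
set_option backward.isDefEq.respectTransparency.types false

noncomputable section

namespace Groth.Agent.DefFin29

open Groth.Agent.DefGlueLib Groth.Agent.HomTan29 Groth.Agent.AModX Scheme ArtFun ArtFun.Art

variable {k : Type u} [Field k] {X P : Scheme.{u}} (y : P ⟶ Art.specPt k) (c : X ⟶ P) (F : X.Modules)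

/-- Derivations of functions on `P` into sections of `F`. -/
structure GDer : Type u where
  /-- the maps -/
  D : ∀ W : P.Opens, Γ(P, W) →+ Γ(F, c ⁻¹ᵁ W)
  mul : ∀ W a b, D W (a * b) = (c.app W).hom a • D W b + (c.app W).hom b • D W a
  res : ∀ {W V : P.Opens} (h : V ≤ W) a, D V (rs h a) = AModX.res F (c.preimage_mono h) (D W a)
  const : ∀ t, D ⊤ (kst P y ⊤ t) = 0

variable {y c F}

@[ext]
theorem GDer.ext {D D' : GDer y c F} (h : ∀ W a, D.D W a = D'.D W a) : D = D' := by
  obtain ⟨D, _, _, _⟩ := D
  obtain ⟨D', _, _, _⟩ := D'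
  obtain rfl : D = D' := funext fun U => AddMonoidHom.ext (h U)
  rfl

variable (y c F) [QuasiSeparated y]

local notation "ad" => Scheme.Modules.pullbackPushforwardAdjunction c

/-- The differentials of `P` on `X`. -/
abbrev omP : X.Modules := (Scheme.Modules.pullback c).obj (Omega.sheaf y)

/-- The derivation of a map. -/
def toG (β : omP y c ⟶ F) : GDer y c F where
  D W := AddMonoidHom.mk' (fun a => (((ad).homEquiv _ _ β).app W ((OmegaSh.dOmega y).app W a))) fun a b => by
    rw [map_add, map_add]
  mul W a b := by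
    show (((ad).homEquiv _ _ β).app W ((OmegaSh.dOmega y).app W (a * b))) = _
    rw [show (OmegaSh.dOmega y).app W (a * b) = a • (OmegaSh.dOmega y).app W b + b • (OmegaSh.dOmega y).app W a from
      (OmegaSh.dOmega y).d_mul (X := op W) a b, map_add, Scheme.Modules.Hom.app_smul, Scheme.Modules.Hom.app_smul]
    rfl
  res {W V} h a := by
    show (((ad).homEquiv _ _ β).app V ((OmegaSh.dOmega y).app V (rs h a))) = _
    rw [show (OmegaSh.dOmega y).app V (rs h a) = _ from (OmegaSh.dOmega y).d_map (homOfLE h).op a]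
    exact AModX.app_res ((ad).homEquiv _ _ β) h _
  const t := by
    show (((ad).homEquiv _ _ β).app ⊤ ((OmegaSh.dOmega y).app ⊤ (kst P y ⊤ t))) = 0
    have h : (OmegaSh.dOmega y).app ⊤ (kst P y ⊤ t) = 0 := by
      have e : kst P y ⊤ t = y.app ⊤ ((Scheme.ΓSpecIso (CommRingCat.of k)).inv t) :=
        ConcreteCategory.congr_hom (y.appLE_eq_app (U := ⊤)) _
      rw [e]
      exact (OmegaSh.dOmega y).d_app (X := op ⊤) _
    rw [h, map_zero]

theorem toG_apply (β : omP y c ⟶ F) (W : P.Opens) (a : Γ(P, W)) :
    (toG y c F β).D W a = β.app (c ⁻¹ᵁ W) (((ad).unit.app (Omega.sheaf y)).app W ((OmegaSh.dOmega y).app W a)) := by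
  show (((ad).homEquiv _ _ β).app W ((OmegaSh.dOmega y).app W a)) = _
  rw [Adjunction.homEquiv_unit]
  rfl

theorem toG_add (β γ : omP y c ⟶ F) (W : P.Opens) (a : Γ(P, W)) :
    (toG y c F (β + γ)).D W a = (toG y c F β).D W a + (toG y c F γ).D W a := by
  rw [toG_apply, toG_apply, toG_apply]
  rfl

theorem toG_comp {G : X.Modules} (β : omP y c ⟶ F) (φ : F ⟶ G) (W : P.Opens) (a : Γ(P, W)) :
    (toG y c G (β ≫ φ)).D W a = φ.app _ ((toG y c F β).D W a) := by
  rw [toG_apply, toG_apply]
  rfl

theorem toG_smul [X.Over (Spec (CommRingCat.of k))] (t : k) (β : omP y c ⟶ F) (W : P.Opens) (a : Γ(P, W)) :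
    (toG y c F (t • β)).D W a =
      (show Γ(X, c ⁻¹ᵁ W) from rs le_top (Coh.toGlobal (X ↘ Spec (CommRingCat.of k)) t)) • (toG y c F β).D W a := by
  rw [toG_apply, toG_apply, KLin.smul_app_apply]

theorem toG_injective : Function.Injective (toG y c F) := by
  intro β γ h
  refine ((ad).homEquiv _ _).injective ?_
  obtain ⟨α, -, huniq⟩ := OmegaUniv.isUniversal_dOmega y _
    ((OmegaSh.dOmega y).postcomp ((ad).homEquiv _ _ β).val)
  rw [huniq _ rfl, huniq ((ad).homEquiv _ _ γ) ?_]
  refine PresheafOfModules.Derivation.ext (funext fun W => AddMonoidHom.ext fun s => ?_)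
  exact (congrFun (congrArg DFunLike.coe (congrFun (congrArg GDer.D h) W.unop)) s).symm

theorem toG_surjective : Function.Surjective (toG y c F) := by
  intro D
  let d : OmegaSh.Der y ((Scheme.Modules.pushforward c).obj F) :=
    { d := fun {W} => AddMonoidHom.mk' (fun s => D.D W.unop s) fun a b => map_add _ a b
      d_mul := fun {W} a b => D.mul W.unop a b
      d_map := fun {_ _} i s => D.res i.unop.le s
      d_app := fun {V} s => by
        by_cases hV : V.unop = ⊤
        · obtain ⟨V⟩ := V
          subst hV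
          obtain ⟨t, rfl⟩ := (ConcreteCategory.bijective_of_isIso (Scheme.ΓSpecIso (CommRingCat.of k)).inv).2 s
          have e : kst P y ⊤ t = y.app ⊤ ((Scheme.ΓSpecIso (CommRingCat.of k)).inv t) :=
            ConcreteCategory.congr_hom (y.appLE_eq_app (U := ⊤)) _
          have := D.const t
          rw [e] at this
          exact this
        · have hb : V.unop = ⊥ := by
            refine Opens.ext (Set.eq_empty_iff_forall_notMem.2 fun q hq => hV ?_)
            exact top_le_iff.1 fun r _ => (Subsingleton.elim q r) ▸ hq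
          show D.D (y ⁻¹ᵁ V.unop) _ = 0
          refine AModX.eq_of_locally (M := F) _ _ fun q hq => ?_
          have hq' : y (c q) ∈ V.unop := hq
          rw [hb] at hq'
          exact hq'.elim }
  obtain ⟨α, hα, -⟩ := OmegaUniv.isUniversal_dOmega y _ d
  refine ⟨((ad).homEquiv _ _).symm α, GDer.ext fun W a => ?_⟩
  show (((ad).homEquiv _ _ (((ad).homEquiv _ _).symm α)).app W ((OmegaSh.dOmega y).app W a)) = _
  rw [Equiv.apply_symm_apply]
  exact PresheafOfModules.Derivation.congr_d hα (X := op W) a

end Groth.Agent.DefFin29
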