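import Groth.Agent.DefTan29.Tangent
import Groth.Agent.DefFin29.GDer

/-!
Compatible families of lifts of a morphism to the pieces of a deformation.
-/

universe u

open CategoryTheory CategoryTheory.Limits AlgebraicGeometry TopologicalSpace Opposite IsLocalRing

set_option backward.isDefEq.respectTransparency false
set_option backward.isDefEq.respectTransparency.types false

noncomputable section

namespace Groth.Agent.DefFin29

open Groth.Agent.AModX Groth.Agent.DefGlueLib Groth.Agent.DefTan29 Groth.Agent.HomTan29 Groth.Agent.AffDefLib Scheme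
  ArtFun

variable {k : Type u} [Field k] {X P : Scheme.{u}} [X.Over (Spec (CommRingCat.of k))]
  [QuasiSeparated (xk k X)] {y : P ⟶ Art.specPt k} {c : X ⟶ P} {C C' : Art k k}

variable (y c) in
/-- Lifts of `c` on the pieces in an open. -/
structure LiftF (D : PDef (xk k X) C) (U : X.Opens) : Type u where
  /-- the maps -/
  f : ∀ (W : P.Opens) (T : AffineZariskiSite X), T.toOpens ≤ U → T.toOpens ≤ c ⁻¹ᵁ W →
    (Γ(P, W) →+* D.R.obj (op T))
  q_f : ∀ W T (h : T.toOpens ≤ U) (hW : T.toOpens ≤ c ⁻¹ᵁ W) (s : Γ(P, W)),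
    (D.qU T).hom (f W T h hW s) = rs hW ((c.app W).hom s)
  nat : ∀ {W W' : P.Opens} (hWW : W' ≤ W) {T T' : AffineZariskiSite X} (hT : T' ≤ T) (h : T.toOpens ≤ U)
    (hW : T.toOpens ≤ c ⁻¹ᵁ W) (h' : T'.toOpens ≤ U) (hW' : T'.toOpens ≤ c ⁻¹ᵁ W') (s : Γ(P, W)),
    (D.R.map (homOfLE hT).op).hom (f W T h hW s) = f W' T' h' hW' (rs hWW s)
  const : ∀ T (h : T.toOpens ≤ U) (hW : T.toOpens ≤ c ⁻¹ᵁ ⊤) (t : k),
    f ⊤ T h hW (kst P y ⊤ t) = D.a (op T) (algebraMap k C t)

variable {D : PDef (xk k X) C} {D' : PDef (xk k X) C'} {U U' U'' : X.Opens}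

@[ext]
theorem LiftF.ext {L L' : LiftF y c D U} (h : ∀ W T hU hW s, L.f W T hU hW s = L'.f W T hU hW s) : L = L' := by
  obtain ⟨f, _, _, _⟩ := L
  obtain ⟨f', _, _, _⟩ := L'
  obtain rfl : f = f' := funext fun W => funext fun T => funext fun hU => funext fun hW => RingHom.ext (h W T hU hW)
  rfl

/-- Lifts push forward along maps of families. -/
def LiftF.push {g : C ⟶ C'} (φ : PHom g D D') (L : LiftF y c D U) : LiftF y c D' U where
  f W T h hW := (φ.app.app (op T)).hom.comp (L.f W T h hW)
  q_f W T h hW s := (phom_q φ (op T) _).trans (L.q_f W T h hW s)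
  nat {W W'} hWW {T T'} hT h hW h' hW' s :=
    (ConcreteCategory.congr_hom (φ.app.naturality (homOfLE hT).op) _).symm.trans
      (congrArg (φ.app.app (op T')).hom (L.nat hWW hT h hW h' hW' s))
  const T h hW t := (congrArg (φ.app.app (op T)).hom (L.const T h hW t)).trans
    ((φ.comm (op T) _).trans (congrArg (D'.a (op T)) (g.toAlgHom.commutes t)))

theorem small_zero : Small (0 : C) :=
  ⟨Ideal.zero_mem _, fun m _ => mul_zero m⟩

theorem ins_zero_left (T : AffineZariskiSite X) (b : Γ(X, T.toOpens)) : ins D 0 T b = 0 := by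
  rw [ins, map_zero, zero_mul]

/-- A derivation on one member. -/
structure Der1 (y : P ⟶ Art.specPt k) (c : X ⟶ P) (U : X.Opens) : Type u where
  /-- the maps -/
  D : ∀ (W : P.Opens) (T : AffineZariskiSite X), T.toOpens ≤ U → T.toOpens ≤ c ⁻¹ᵁ W →
    (Γ(P, W) →+ Γ(X, T.toOpens))
  mul : ∀ W T h hW a b, D W T h hW (a * b) =
    rs hW ((c.app W).hom a) * D W T h hW b + rs hW ((c.app W).hom b) * D W T h hW a
  nat : ∀ {W W' : P.Opens} (hWW : W' ≤ W) {T T' : AffineZariskiSite X} (hT : T' ≤ T) (h : T.toOpens ≤ U)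
    (hW : T.toOpens ≤ c ⁻¹ᵁ W) (h' : T'.toOpens ≤ U) (hW' : T'.toOpens ≤ c ⁻¹ᵁ W') (s : Γ(P, W)),
    rs (AffineZariskiSite.toOpens_mono hT) (D W T h hW s) = D W' T' h' hW' (rs hWW s)
  const : ∀ T h hW t, D ⊤ T h hW (kst P y ⊤ t) = 0

/-- A lift moved by a derivation along a small element. -/
def LiftF.shift {e : C} (he : Small e) (L : LiftF y c D U) (δ : Der1 y c U) : LiftF y c D U where
  f W T h hW :=
    { toFun := fun s => L.f W T h hW s + ins D e T (δ.D W T h hW s)
      map_zero' := by rw [map_zero, map_zero, ins_zero he, add_zero]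
      map_one' := by
        have h1 := δ.mul W T h hW 1 1
        rw [mul_one, map_one (c.app W).hom, map_one (rs hW), one_mul, left_eq_add] at h1
        rw [map_one, h1, ins_zero he, add_zero]
      map_add' := fun a b => by rw [map_add, map_add, ins_add he]; abel
      map_mul' := fun a b => by
        have h2 : ins D e T (δ.D W T h hW (a * b)) =
            L.f W T h hW a * ins D e T (δ.D W T h hW b) + L.f W T h hW b * ins D e T (δ.D W T h hW a) := by
          rw [mul_ins he, mul_ins he, ← ins_add he, δ.mul, L.q_f, L.q_f]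
        rw [map_mul, h2]
        linear_combination (-1 : D.R.obj (op T)) * ins_mul_ins (D := D) he he (δ.D W T h hW a) (δ.D W T h hW b) }
  q_f W T h hW s := by
    show (D.qU T).hom (L.f W T h hW s + ins D e T _) = _
    rw [map_add, L.q_f, show (D.qU T).hom (ins D e T _) = 0 from q_ins D he T _, add_zero]
  nat {W W'} hWW {T T'} hT h hW h' hW' s := by
    show (D.R.map (homOfLE hT).op).hom (L.f W T h hW s + ins D e T _) = L.f W' T' h' hW' _ + ins D e T' _
    rw [map_add, L.nat hWW hT h hW h' hW', map_ins he, δ.nat hWW hT h hW h' hW']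
  const T h hW t := by
    show L.f ⊤ T h hW _ + ins D e T _ = _
    rw [δ.const, ins_zero he, add_zero, L.const]

theorem shift_f {e : C} (he : Small e) (L : LiftF y c D U) (δ : Der1 y c U) (W : P.Opens) (T : AffineZariskiSite X)
    (h : T.toOpens ≤ U) (hW : T.toOpens ≤ c ⁻¹ᵁ W) (s : Γ(P, W)) :
    (L.shift he δ).f W T h hW s = L.f W T h hW s + ins D e T (δ.D W T h hW s) := rfl

theorem push_shift {g : C ⟶ C'} (φ : PHom g D D') {e : C} (he : Small e) (he' : Small (g e))
    (L : LiftF y c D U) (δ : Der1 y c U) : (L.shift he δ).push φ = (L.push φ).shift he' δ :=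
  LiftF.ext fun W T h hW s => by
    show (φ.app.app (op T)).hom (L.f W T h hW s + ins D e T _) = (φ.app.app (op T)).hom (L.f W T h hW s) + _
    rw [map_add, app_ins φ he he']

section Dual

variable {E E₁ E₂ : PDef (xk k X) (Art.dual k k)}

theorem exists_ins {T : AffineZariskiSite X} {z : E.R.obj (op T)} (hz : (E.qU T).hom z = 0) :
    ∃ b, ins E deps T b = z := by
  have := (E.isDef (op T)).ker_le (RingHom.mem_ker.2 hz)
  rw [dual_maximalIdeal, Ideal.map_span, Set.image_singleton, Ideal.mem_span_singleton'] at this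
  obtain ⟨w, rfl⟩ := this
  exact ⟨(E.qU T).hom w, (ins_eq E deps_small w rfl).trans (mul_comm _ _)⟩

theorem ins_injective {T : AffineZariskiSite X} {b b' : Γ(X, T.toOpens)} (h : ins E deps T b = ins E deps T b') :
    b = b' := by
  obtain ⟨w, rfl⟩ := map_qU_surjective E T b
  obtain ⟨w', rfl⟩ := map_qU_surjective E T b'
  rw [ins_eq E deps_small w rfl, ins_eq E deps_small w' rfl, ← sub_eq_zero, ← mul_sub] at h
  have := q_eq_zero_of_smul_eps (op T) h
  rw [map_sub, sub_eq_zero] at this
  exact this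

theorem ext_ins (E : PDef (xk k X) (Art.dual k k)) {O : X.Opens} {v v' : Γ(X, O)}
    (h : ∀ (T : AffineZariskiSite X) (hT : T.toOpens ≤ O), ins E deps T (rs hT v) = ins E deps T (rs hT v')) :
    v = v' :=
  DefGlueLib.eq_of_locally fun p hp => by
    obtain ⟨T, hpT, hT⟩ := DefGlueLib.exists_site_le hp
    exact ⟨T.toOpens, hT, hpT, ins_injective (h T hT)⟩

/-- The overlap over an open of the target. -/
abbrev ov2 (c : X ⟶ P) (W : P.Opens) (U U' : X.Opens) : X.Opens := c ⁻¹ᵁ W ⊓ (U ⊓ U')

theorem exists_diff (L : LiftF y c E U) (L' : LiftF y c E U') (W : P.Opens) (s : Γ(P, W)) :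
    ∃ v : Γ(X, ov2 c W U U'), ∀ (T : AffineZariskiSite X) (hT : T.toOpens ≤ ov2 c W U U'),
      ins E deps T (rs hT v) =
        L'.f W T (hT.trans (inf_le_right.trans inf_le_right)) (hT.trans inf_le_left) s -
          L.f W T (hT.trans (inf_le_right.trans inf_le_left)) (hT.trans inf_le_left) s := by
  let ι := {T : AffineZariskiSite X // T.toOpens ≤ ov2 c W U U'}
  have hb : ∀ i : ι, ∃ b, ins E deps i.1 b =
      L'.f W i.1 (i.2.trans (inf_le_right.trans inf_le_right)) (i.2.trans inf_le_left) s -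
        L.f W i.1 (i.2.trans (inf_le_right.trans inf_le_left)) (i.2.trans inf_le_left) s := fun i =>
    exists_ins (by rw [map_sub, L'.q_f, L.q_f, sub_self])
  choose b hb using hb
  have key : ∀ (i : ι) (T : AffineZariskiSite X) (hT : T ≤ i.1) (hT' : T.toOpens ≤ ov2 c W U U'),
      ins E deps T (rs (AffineZariskiSite.toOpens_mono hT) (b i)) =
        L'.f W T (hT'.trans (inf_le_right.trans inf_le_right)) (hT'.trans inf_le_left) s -
          L.f W T (hT'.trans (inf_le_right.trans inf_le_left)) (hT'.trans inf_le_left) s := fun i T hT hT' => by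
    rw [← map_ins deps_small (homOfLE hT).op, hb, map_sub,
      L'.nat le_rfl hT _ _ (hT'.trans (inf_le_right.trans inf_le_right)) (hT'.trans inf_le_left),
      L.nat le_rfl hT _ _ (hT'.trans (inf_le_right.trans inf_le_left)) (hT'.trans inf_le_left)]
    rw [show rs (le_refl W) s = s from resR_self s]
  obtain ⟨v, hv, -⟩ := TopCat.Sheaf.existsUnique_gluing' X.sheaf (fun i : ι => i.1.toOpens) (ov2 c W U U')
    (fun i => homOfLE i.2)
    (fun p hp => by
      obtain ⟨T, hpT, hT⟩ := DefGlueLib.exists_site_le hp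
      exact Opens.mem_iSup.2 ⟨⟨T, hT⟩, hpT⟩)
    b
    (fun i j => DefGlueLib.eq_of_locally fun p hp => by
      obtain ⟨T, hTi, hTj, hpT⟩ := DefGlueLib.exists_common i.1 j.1 hp
      refine ⟨T.toOpens, le_inf (AffineZariskiSite.toOpens_mono hTi) (AffineZariskiSite.toOpens_mono hTj), hpT, ?_⟩
      have hT' : T.toOpens ≤ ov2 c W U U' := (AffineZariskiSite.toOpens_mono hTi).trans i.2
      exact (rs_rs inf_le_left _ _).trans ((ins_injective ((key i T hTi hT').trans (key j T hTj hT').symm)).trans
        (rs_rs inf_le_right _ _).symm))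
  exact ⟨v, fun T hT => (congrArg (ins E deps T) (hv ⟨T, hT⟩)).trans (hb ⟨T, hT⟩)⟩

/-- The difference of two lifts. -/
def dv (L : LiftF y c E U) (L' : LiftF y c E U') (W : P.Opens) (s : Γ(P, W)) : Γ(X, ov2 c W U U') :=
  (exists_diff L L' W s).choose

theorem dv_spec (L : LiftF y c E U) (L' : LiftF y c E U') (W : P.Opens) (s : Γ(P, W)) (T : AffineZariskiSite X)
    (hT : T.toOpens ≤ ov2 c W U U') :
    ins E deps T (rs hT (dv L L' W s)) =
      L'.f W T (hT.trans (inf_le_right.trans inf_le_right)) (hT.trans inf_le_left) s -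
        L.f W T (hT.trans (inf_le_right.trans inf_le_left)) (hT.trans inf_le_left) s :=
  (exists_diff L L' W s).choose_spec T hT

theorem dv_add (L : LiftF y c E U) (L' : LiftF y c E U') (W : P.Opens) (s t : Γ(P, W)) :
    dv L L' W (s + t) = dv L L' W s + dv L L' W t :=
  ext_ins E fun T hT => by
    rw [map_add, ins_add deps_small, dv_spec, dv_spec, dv_spec, map_add, map_add]
    abel

theorem dv_mul (L : LiftF y c E U) (L' : LiftF y c E U') (W : P.Opens) (s t : Γ(P, W)) :
    dv L L' W (s * t) = rs inf_le_left ((c.app W).hom s) * dv L L' W t +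
      rs inf_le_left ((c.app W).hom t) * dv L L' W s :=
  ext_ins E fun T hT => by
    have e1 : ins E deps T (rs hT (rs inf_le_left ((c.app W).hom s) * dv L L' W t)) =
        L'.f W T (hT.trans (inf_le_right.trans inf_le_right)) (hT.trans inf_le_left) s *
          ins E deps T (rs hT (dv L L' W t)) := by
      rw [mul_ins deps_small, L'.q_f, map_mul, rs_rs]
    have e2 : ins E deps T (rs hT (rs inf_le_left ((c.app W).hom t) * dv L L' W s)) =
        L.f W T (hT.trans (inf_le_right.trans inf_le_left)) (hT.trans inf_le_left) t *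
          ins E deps T (rs hT (dv L L' W s)) := by
      rw [mul_ins deps_small, L.q_f, map_mul, rs_rs]
    rw [map_add, ins_add deps_small, e1, e2, dv_spec, dv_spec, dv_spec, map_mul, map_mul]
    ring

theorem dv_res (L : LiftF y c E U) (L' : LiftF y c E U') {W W' : P.Opens} (h : W' ≤ W) (s : Γ(P, W)) :
    dv L L' W' (rs h s) = rs (inf_le_inf_right _ (c.preimage_mono h)) (dv L L' W s) :=
  ext_ins E fun T hT => by
    rw [dv_spec, rs_rs, dv_spec]
    have hself : ∀ z : E.R.obj (op T), (E.R.map (homOfLE (le_refl T)).op).hom z = z := fun z =>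
      ConcreteCategory.congr_hom (E.R.map_id _) z
    rw [← L'.nat h le_rfl (hT.trans (inf_le_right.trans inf_le_right))
        (hT.trans (inf_le_left.trans (c.preimage_mono h))) (hT.trans (inf_le_right.trans inf_le_right))
        (hT.trans inf_le_left) s, hself,
      ← L.nat h le_rfl (hT.trans (inf_le_right.trans inf_le_left))
        (hT.trans (inf_le_left.trans (c.preimage_mono h))) (hT.trans (inf_le_right.trans inf_le_left))
        (hT.trans inf_le_left) s, hself]

theorem dv_const (L : LiftF y c E U) (L' : LiftF y c E U') (t : k) : dv L L' ⊤ (kst P y ⊤ t) = 0 :=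
  ext_ins E fun T hT => by rw [dv_spec, L'.const, L.const, sub_self, map_zero, ins_zero deps_small]

theorem dv_cocycle (L : LiftF y c E U) (L' : LiftF y c E U') (L'' : LiftF y c E U'') (W : P.Opens) (s : Γ(P, W))
    {O : X.Opens} (h₁ : O ≤ ov2 c W U U'') (h₂ : O ≤ ov2 c W U U') (h₃ : O ≤ ov2 c W U' U'') :
    rs h₁ (dv L L'' W s) = rs h₂ (dv L L' W s) + rs h₃ (dv L' L'' W s) :=
  ext_ins E fun T hT => by
    rw [map_add, ins_add deps_small, rs_rs, rs_rs, rs_rs, dv_spec, dv_spec, dv_spec]
    abel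

/-- The difference of two lifts on one open as a derivation. -/
def diffDer (L L' : LiftF y c E U) : Der1 y c U where
  D W T h hW := AddMonoidHom.mk' (fun s => rs (le_inf hW (le_inf h h)) (dv L L' W s)) fun a b => by
    rw [dv_add, map_add]
  mul W T h hW a b := by
    show rs _ (dv L L' W (a * b)) = _
    rw [dv_mul, map_add, map_mul, map_mul, rs_rs, rs_rs]
    rfl
  nat {W W'} hWW {T T'} hT h hW h' hW' s := by
    show rs _ (rs _ (dv L L' W s)) = rs _ (dv L L' W' (rs hWW s))
    rw [dv_res, rs_rs, rs_rs]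
  const T h hW t := by
    show rs _ (dv L L' ⊤ (kst P y ⊤ t)) = 0
    rw [dv_const, map_zero]

theorem shift_diffDer (L L' : LiftF y c E U) : L.shift deps_small (diffDer L L') = L' :=
  LiftF.ext fun W T h hW s => by
    rw [shift_f]
    show _ + ins E deps T (rs _ (dv L L' W s)) = _
    rw [dv_spec]
    abel

end Dual

end Groth.Agent.DefFin29
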