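import Groth.Agent.DefFin29.Rel
import Groth.Agent.DefTan29.Surj

/-!
A deformation with compatible lifts killing the equations is trivial.
-/

universe u

open CategoryTheory CategoryTheory.Limits AlgebraicGeometry TopologicalSpace Opposite IsLocalRing

set_option backward.isDefEq.respectTransparency false
set_option backward.isDefEq.respectTransparency.types false

noncomputable section

namespace Groth.Agent.DefFin29

open Groth.Agent.AModX Groth.Agent.DefGlueLib Groth.Agent.DefTan29 Groth.Agent.HomTan29 Groth.Agent.AffDefLib Scheme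
  ArtFun

variable {k : Type u} [Field k] {X P : Scheme.{u}} [X.Over (Spec (CommRingCat.of k))]
  [QuasiSeparated (xk k X)] {y : P ⟶ Art.specPt k} [QuasiSeparated y] {c : X ⟶ P} [IsClosedImmersion c]
  {ι : Type u} {V : ι → P.Opens}

/-- The affine piece over an affine open of the target. -/
abbrev pre (c : X ⟶ P) [IsClosedImmersion c] (W : P.Opens) (hW : IsAffineOpen W) : AffineZariskiSite X :=
  ⟨c ⁻¹ᵁ W, hW.preimage c⟩

omit [QuasiSeparated (xk k X)] [X.Over (Spec (CommRingCat.of k))] in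
/-- Small preimages of affines are cofinal. -/
theorem exists_refine (T : AffineZariskiSite X) {p : X} (hp : p ∈ T.toOpens) {O : P.Opens} (hO : c p ∈ O) :
    ∃ (W : P.Opens) (hW : IsAffineOpen W), W ≤ O ∧ p ∈ c ⁻¹ᵁ W ∧
      pre c W hW ≤ T := by
  obtain ⟨W₀, hW₀, hpW₀, hle⟩ := exists_isAffineOpen_mem_and_subset hO
  let A : AffineZariskiSite X := ⟨c ⁻¹ᵁ W₀, hW₀.preimage c⟩
  obtain ⟨B, hBT, hBA, hpB⟩ := DefGlueLib.exists_common T A ⟨hp, hpW₀⟩
  obtain ⟨g, hg⟩ := id hBA
  obtain ⟨g', rfl⟩ := c.app_surjective W₀ hW₀ g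
  refine ⟨P.basicOpen g', hW₀.basicOpen g', (P.basicOpen_le g').trans hle, ?_, ?_⟩
  · rw [Scheme.preimage_basicOpen]
    exact hg.ge hpB
  · have e : pre c (P.basicOpen g') (hW₀.basicOpen g') = B :=
      Subtype.ext ((Scheme.preimage_basicOpen c g').trans hg)
    exact (le_of_eq e).trans hBT

section OfSch

variable {ξ : DefSch X (xk k X) (Art.dual k k)} (L : ∀ i, LiftF y c (ofSch ξ) (c ⁻¹ᵁ V i))
  (hd : ∀ i j W s, dv (L i) (L j) W s = 0)
  (hφ : ∀ i W T hT hW (s : Γ(P, W)), (c.app W).hom s = 0 → (L i).f W T hT hW s = 0)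
  (hcov : ∀ p : X, ∃ i, c p ∈ V i)

/-- Small pieces of an affine piece. -/
structure Piece (c : X ⟶ P) [IsClosedImmersion c] (V : ι → P.Opens) (T : AffineZariskiSite X) : Type u where
  /-- the index -/
  i : ι
  /-- the open -/
  W : P.Opens
  aff : IsAffineOpen W
  le : W ≤ V i
  mem : pre c W aff ≤ T

/-- The affine piece of a small piece. -/
abbrev Piece.site {T : AffineZariskiSite X} (j : Piece c V T) : AffineZariskiSite X := pre c j.W j.aff

omit [QuasiSeparated (xk k X)] [X.Over (Spec (CommRingCat.of k))] in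
theorem Piece.sub {T : AffineZariskiSite X} (j : Piece c V T) : c ⁻¹ᵁ j.W ≤ T.toOpens :=
  AffineZariskiSite.toOpens_mono j.mem

omit [QuasiSeparated (xk k X)] [X.Over (Spec (CommRingCat.of k))] in
include hcov in
theorem exists_piece (T : AffineZariskiSite X) {p : X} (hp : p ∈ T.toOpens) {O : P.Opens} (hO : c p ∈ O) :
    ∃ j : Piece c V T, j.W ≤ O ∧ p ∈ j.site.toOpens := by
  obtain ⟨i, hi⟩ := hcov p
  obtain ⟨W, hW, hle, hpW, hWT⟩ := exists_refine (c := c) T hp (O := O ⊓ V i) ⟨hO, hi⟩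
  exact ⟨⟨i, W, hW, hle.trans inf_le_right, hWT⟩, hle.trans inf_le_left, hpW⟩

/-- The value of a lift on a piece. -/
def val {T : AffineZariskiSite X} (j : Piece c V T) : Γ(P, j.W) →+* (ofSch ξ).R.obj (op j.site) :=
  (L j.i).f j.W j.site (c.preimage_mono j.le) le_rfl

theorem rs_site {T : AffineZariskiSite X} (j : Piece c V T) (b : Γ(X, T.toOpens)) :
    ∃ s : Γ(P, j.W), (c.app j.W).hom s = rs j.sub b :=
  c.app_surjective j.W j.aff _

include hd hφ in
theorem val_compat {T : AffineZariskiSite X} (j j' : Piece c V T) {S : AffineZariskiSite X} (h : S ≤ j.site)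
    (h' : S ≤ j'.site) {W : P.Opens} (hS : S.toOpens ≤ c ⁻¹ᵁ W) (hW : W ≤ j.W) (hW' : W ≤ j'.W)
    (b : Γ(X, T.toOpens)) (s : Γ(P, j.W)) (s' : Γ(P, j'.W))
    (hs : (c.app j.W).hom s = rs j.sub b)
    (hs' : (c.app j'.W).hom s' = rs j'.sub b) :
    ((ofSch ξ).R.map (homOfLE h).op).hom (val L j s) = ((ofSch ξ).R.map (homOfLE h').op).hom (val L j' s') := by
  have a : S.toOpens ≤ c ⁻¹ᵁ V j.i := (AffineZariskiSite.toOpens_mono h).trans (c.preimage_mono j.le)
  have a' : S.toOpens ≤ c ⁻¹ᵁ V j'.i := (AffineZariskiSite.toOpens_mono h').trans (c.preimage_mono j'.le)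
  rw [val, val, (L j.i).nat hW h _ _ a hS, (L j'.i).nat hW' h' _ _ a' hS]
  have e1 : ∀ z, (L j'.i).f W S a' hS z = (L j.i).f W S a hS z := fun z => by
    have := dv_spec (L j.i) (L j'.i) W z S (le_inf hS (le_inf a a'))
    rw [hd, map_zero, ins_zero deps_small] at this
    exact sub_eq_zero.1 this.symm
  rw [e1, ← sub_eq_zero, ← map_sub]
  refine hφ _ _ _ _ _ _ ?_
  rw [map_sub, sub_eq_zero]
  have n1 : (c.app W).hom (rs hW s) = rs (c.preimage_mono hW) ((c.app j.W).hom s) :=
    ConcreteCategory.congr_hom (c.naturality (homOfLE hW).op) s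
  have n2 : (c.app W).hom (rs hW' s') = rs (c.preimage_mono hW') ((c.app j'.W).hom s') :=
    ConcreteCategory.congr_hom (c.naturality (homOfLE hW').op) s'
  rw [n1, n2, hs, hs', rs_rs, rs_rs]

/-- The characterisation of the section. -/
def IsSec (T : AffineZariskiSite X) (b : Γ(X, T.toOpens)) (z : (ofSch ξ).R.obj (op T)) : Prop :=
  ∀ (j : Piece c V T) (s : Γ(P, j.W)), (c.app j.W).hom s = rs j.sub b →
    ((ofSch ξ).R.map (homOfLE (show j.site ≤ T from j.mem)).op).hom z = val L j s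

include hcov in
theorem isSec_unique {T : AffineZariskiSite X} {b : Γ(X, T.toOpens)} {z z' : (ofSch ξ).R.obj (op T)}
    (h : IsSec L T b z) (h' : IsSec L T b z') : z = z' := by
  refine DefGlueLib.eq_of_locally (X := ξ.total) fun q hq => ?_
  obtain ⟨p, hp, rfl⟩ := hq
  obtain ⟨j, -, hpj⟩ := exists_piece hcov T hp (O := ⊤) (Opens.mem_top _)
  obtain ⟨s, hs⟩ := rs_site j b
  exact ⟨imOpen ξ j.site.toOpens, imOpen_mono ξ (AffineZariskiSite.toOpens_mono j.mem), ⟨p, hpj, rfl⟩,
    (h j s hs).trans (h' j s hs).symm⟩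

include hd hφ hcov in
theorem exists_isSec (T : AffineZariskiSite X) (b : Γ(X, T.toOpens)) : ∃ z, IsSec L T b z := by
  choose s hs using fun j : Piece c V T => rs_site j b
  obtain ⟨z, hz, -⟩ := TopCat.Sheaf.existsUnique_gluing' ξ.total.sheaf
    (fun j : Piece c V T => imOpen ξ j.site.toOpens) (imOpen ξ T.toOpens)
    (fun j => homOfLE (imOpen_mono ξ (AffineZariskiSite.toOpens_mono j.mem)))
    (fun q hq => by
      obtain ⟨p, hp, rfl⟩ := hq
      obtain ⟨j, -, hpj⟩ := exists_piece hcov T hp (O := ⊤) (Opens.mem_top _)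
      exact Opens.mem_iSup.2 ⟨j, p, hpj, rfl⟩)
    (fun j => val L j (s j))
    (fun j j' => DefGlueLib.eq_of_locally (X := ξ.total) fun q hq => by
      obtain ⟨p, hpj, rfl⟩ := hq.1
      obtain ⟨p', hpj', e⟩ := hq.2
      obtain rfl : p' = p := ξ.i.isClosedEmbedding.injective e
      obtain ⟨T₃, h₃, h₃', hp₃⟩ := DefGlueLib.exists_common j.site j'.site ⟨hpj, hpj'⟩
      obtain ⟨W, hW, hle, hpW, hWT⟩ := exists_refine (c := c) T₃ hp₃ (O := j.W ⊓ j'.W) ⟨hpj, hpj'⟩
      refine ⟨imOpen ξ (c ⁻¹ᵁ W), le_inf (imOpen_mono ξ (AffineZariskiSite.toOpens_mono (hWT.trans h₃)))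
        (imOpen_mono ξ (AffineZariskiSite.toOpens_mono (hWT.trans h₃'))), ⟨_, hpW, rfl⟩, ?_⟩
      refine (rs_rs _ _ _).trans (Eq.trans ?_ (rs_rs _ _ _).symm)
      exact val_compat L hd hφ j j' (S := pre c W hW) (hWT.trans h₃) (hWT.trans h₃') le_rfl
        (hle.trans inf_le_left) (hle.trans inf_le_right) b (s j) (s j') (hs j) (hs j'))
  refine ⟨z, fun j t ht => (hz j).trans ?_⟩
  have := val_compat L hd hφ j j (le_refl j.site) (le_refl j.site) (W := j.W) le_rfl le_rfl le_rfl b (s j) t (hs j) ht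
  have hid : ∀ w, ((ofSch ξ).R.map (homOfLE (le_refl j.site)).op).hom w = w :=
    fun w => ConcreteCategory.congr_hom ((ofSch ξ).R.map_id _) w
  rwa [hid, hid] at this

/-- The section on a piece. -/
def secF (T : AffineZariskiSite X) : Γ(X, T.toOpens) →+* (ofSch ξ).R.obj (op T) where
  toFun b := (exists_isSec L hd hφ hcov T b).choose
  map_zero' := isSec_unique L hcov (exists_isSec L hd hφ hcov T 0).choose_spec fun j s hs => by
    rw [map_zero]
    rw [map_zero] at hs
    exact (hφ _ _ _ _ _ s hs).symm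
  map_one' := isSec_unique L hcov (exists_isSec L hd hφ hcov T 1).choose_spec fun j s hs => by
    rw [map_one]
    rw [map_one] at hs
    refine (sub_eq_zero.1 ?_).symm
    rw [← map_one (val L j), ← map_sub]
    exact hφ _ _ _ _ _ _ (by rw [map_sub, hs, map_one, sub_self])
  map_add' a b := isSec_unique L hcov (exists_isSec L hd hφ hcov T (a + b)).choose_spec fun j s hs => by
    obtain ⟨sa, hsa⟩ := rs_site j a
    obtain ⟨sb, hsb⟩ := rs_site j b
    rw [map_add, (exists_isSec L hd hφ hcov T a).choose_spec j sa hsa,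
      (exists_isSec L hd hφ hcov T b).choose_spec j sb hsb, ← map_add, ← sub_eq_zero, ← map_sub]
    exact hφ _ _ _ _ _ _ (by rw [map_sub, map_add, hs, hsa, hsb, map_add, sub_self])
  map_mul' a b := isSec_unique L hcov (exists_isSec L hd hφ hcov T (a * b)).choose_spec fun j s hs => by
    obtain ⟨sa, hsa⟩ := rs_site j a
    obtain ⟨sb, hsb⟩ := rs_site j b
    rw [map_mul, (exists_isSec L hd hφ hcov T a).choose_spec j sa hsa,
      (exists_isSec L hd hφ hcov T b).choose_spec j sb hsb, ← map_mul, ← sub_eq_zero, ← map_sub]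
    exact hφ _ _ _ _ _ _ (by rw [map_sub, map_mul, hs, hsa, hsb, map_mul, sub_self])

theorem secF_spec (T : AffineZariskiSite X) (b : Γ(X, T.toOpens)) : IsSec L T b (secF L hd hφ hcov T b) :=
  (exists_isSec L hd hφ hcov T b).choose_spec

theorem qU_secF (T : AffineZariskiSite X) (b : Γ(X, T.toOpens)) :
    ((ofSch ξ).qU T).hom (secF L hd hφ hcov T b) = b := by
  refine DefGlueLib.eq_of_locally fun p hp => ?_
  obtain ⟨j, -, hpj⟩ := exists_piece hcov T hp (O := ⊤) (Opens.mem_top _)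
  obtain ⟨s, hs⟩ := rs_site j b
  refine ⟨c ⁻¹ᵁ j.W, j.sub, hpj, ?_⟩
  refine ((ofSch ξ).q_map (homOfLE (show j.site ≤ T from j.mem)).op _).symm.trans ?_
  refine (congrArg ((ofSch ξ).q.app (op j.site)).hom (secF_spec L hd hφ hcov T b j s hs)).trans ?_
  refine ((L j.i).q_f _ _ _ _ s).trans ?_
  rw [hs, rs_rs]

theorem secF_const (hc : c ≫ y = xk k X) (T : AffineZariskiSite X) (t : k) :
    secF L hd hφ hcov T (str (xk k X) T t) = (ofSch ξ).a (op T) (algebraMap k (Art.dual k k) t) := by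
  refine isSec_unique L hcov (secF_spec L hd hφ hcov T _) fun j s hs => ?_
  rw [(ofSch ξ).a_map]
  have e1 : rs (le_top : j.W ≤ ⊤) (kst P y ⊤ t) = kst P y j.W t :=
    ConcreteCategory.congr_hom (Scheme.Hom.appLE_map y (U := ⊤) le_top (homOfLE le_top).op) _
  have e2 : (c.app j.W).hom (kst P y j.W t) = str (xk k X) j.site t := by
    have h1 : y.appLE ⊤ j.W le_top ≫ c.appLE j.W (c ⁻¹ᵁ j.W) le_rfl = (xk k X).appLE ⊤ (c ⁻¹ᵁ j.W) le_top := by
      rw [Scheme.Hom.appLE_comp_appLE]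
      simp only [hc]
    rw [Scheme.Hom.app_eq_appLE]
    exact ConcreteCategory.congr_hom h1 ((Scheme.ΓSpecIso (CommRingCat.of k)).inv t)
  have e3 : rs j.sub (str (xk k X) T t) = str (xk k X) j.site t :=
    RingHom.congr_fun (str_res (xk k X) (show j.site ≤ T from j.mem)) t
  have e4 : val L j (rs le_top (kst P y ⊤ t)) = (ofSch ξ).a (op j.site) (algebraMap k (Art.dual k k) t) := by
    refine ((L j.i).nat (W := ⊤) le_top (le_refl j.site) (c.preimage_mono j.le) le_top (c.preimage_mono j.le) le_rfl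
      (kst P y ⊤ t)).symm.trans ?_
    rw [(L j.i).const]
    exact (ofSch ξ).a_map _ _
  rw [← e4, e1, ← sub_eq_zero, ← map_sub]
  exact hφ _ _ _ _ _ _ (by rw [map_sub, e2, hs, e3, sub_self])

theorem secF_nat {T T' : AffineZariskiSite X} (h : T' ≤ T) (b : Γ(X, T.toOpens)) :
    ((ofSch ξ).R.map (homOfLE h).op).hom (secF L hd hφ hcov T b) =
      secF L hd hφ hcov T' (rs (AffineZariskiSite.toOpens_mono h) b) := by
  refine isSec_unique L hcov (fun j s hs => ?_) (secF_spec L hd hφ hcov T' _)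
  rw [rs_rs] at hs
  let j₀ : Piece c V T := ⟨j.i, j.W, j.aff, j.le, j.mem.trans h⟩
  exact (ConcreteCategory.congr_hom ((ofSch ξ).R.map_comp (homOfLE h).op
    (homOfLE (show j.site ≤ T' from j.mem)).op) _).symm.trans (secF_spec L hd hφ hcov T b j₀ s hs)

omit [QuasiSeparated y] [IsClosedImmersion c] in
/-- Deformations with compatible sections are isomorphic. -/
theorem cl_eq_of_sections {ξ₁ ξ₂ : DefSch X (xk k X) (Art.dual k k)}
    (s₁ : ∀ T : AffineZariskiSite X, Γ(X, T.toOpens) →+* (ofSch ξ₁).R.obj (op T))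
    (hq₁ : ∀ T b, ((ofSch ξ₁).qU T).hom (s₁ T b) = b)
    (hc₁ : ∀ T t, s₁ T (str (xk k X) T t) = (ofSch ξ₁).a (op T) (algebraMap k _ t))
    (hn₁ : ∀ {T T' : AffineZariskiSite X} (h : T' ≤ T) b, ((ofSch ξ₁).R.map (homOfLE h).op).hom (s₁ T b) =
      s₁ T' (rs (AffineZariskiSite.toOpens_mono h) b))
    (s₂ : ∀ T : AffineZariskiSite X, Γ(X, T.toOpens) →+* (ofSch ξ₂).R.obj (op T))
    (hq₂ : ∀ T b, ((ofSch ξ₂).qU T).hom (s₂ T b) = b)
    (hc₂ : ∀ T t, s₂ T (str (xk k X) T t) = (ofSch ξ₂).a (op T) (algebraMap k _ t))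
    (hn₂ : ∀ {T T' : AffineZariskiSite X} (h : T' ≤ T) b, ((ofSch ξ₂).R.map (homOfLE h).op).hom (s₂ T b) =
      s₂ T' (rs (AffineZariskiSite.toOpens_mono h) b)) :
    ξ₁.cl = ξ₂.cl := by
  choose ψ hψa hψs using fun T : AffineZariskiSite X =>
    exists_trivHom ((ofSch ξ₁).isDef (op T)) (s₁ T) (hq₁ T) (hc₁ T) ((ofSch ξ₂).a (op T)) (s₂ T) (hc₂ T)
  let φ : PHom (𝟙 (Art.dual k k)) (ofSch ξ₁) (ofSch ξ₂) :=
    { app :=
        { app := fun T => CommRingCat.ofHom (ψ T.unop)
          naturality := fun T T' f => by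
            induction T using Opposite.rec with
            | op T =>
            induction T' using Opposite.rec with
            | op T' =>
            refine CommRingCat.hom_ext (ext_of_gen ((ofSch ξ₁).isDef (op T)) (s₁ T) (hq₁ T) _ _ (fun a => ?_) fun b => ?_)
            · show ψ T' (((ofSch ξ₁).R.map f).hom _) = ((ofSch ξ₂).R.map f).hom (ψ T _)
              rw [(ofSch ξ₁).a_map, hψa, hψa, (ofSch ξ₂).a_map]
            · show ψ T' (((ofSch ξ₁).R.map f).hom _) = ((ofSch ξ₂).R.map f).hom (ψ T _)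
              rw [hψs]
              refine Eq.trans ?_ (hn₂ f.unop.le b).symm
              refine (congrArg (ψ T') (hn₁ f.unop.le b)).trans ?_
              rw [hψs] }
      comm := fun T a => hψa T.unop a
      q_app := NatTrans.ext (funext fun T => CommRingCat.hom_ext (ext_of_gen ((ofSch ξ₁).isDef T) (s₁ T.unop)
        (hq₁ T.unop) _ _ (fun a => by
          show ((ofSch ξ₂).q.app T).hom (ψ T.unop _) = ((ofSch ξ₁).q.app T).hom _
          rw [hψa]
          exact (((ofSch ξ₂).isDef T).comm a).trans (((ofSch ξ₁).isDef T).comm a).symm) fun b => by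
          show ((ofSch ξ₂).q.app T).hom (ψ T.unop _) = ((ofSch ξ₁).q.app T).hom _
          rw [hψs]
          exact (hq₂ T.unop b).trans (hq₁ T.unop b).symm)) }
  rw [← cl_toDefSch_ofSch ξ₁, ← cl_toDefSch_ofSch ξ₂]
  exact (cl_eq_of_phom φ).symm

include L hd hφ hcov in
/-- The deformation is trivial. -/
theorem cl_ofSch_eq_triv (hc : c ≫ y = xk k X) : ξ.cl = (triv k X (Art.dual k k)).cl := by
  let τ := triv k X (Art.dual k k)
  let fst : τ.total ⟶ X := pullback.fst _ _
  have hi : τ.i ≫ fst = 𝟙 X := DefSch.baseChange_i_fst _ _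
  have hle : ∀ T : AffineZariskiSite X, imOpen τ T.toOpens ≤ fst ⁻¹ᵁ T.toOpens := by
    rintro T _ ⟨p, hp, rfl⟩
    show (τ.i ≫ fst) p ∈ T.toOpens
    rw [hi]
    exact hp
  have hf : fst ≫ xk k X = τ.f ≫ Art.specMap (Art.ofBase (Art.dual k k)) := pullback.condition
  refine cl_eq_of_sections (secF L hd hφ hcov) (qU_secF L hd hφ hcov) (secF_const L hd hφ hcov hc)
    (secF_nat L hd hφ hcov) (fun T => (fst.appLE T.toOpens (imOpen τ T.toOpens) (hle T)).hom) (fun T b => ?_)
    (fun T t => ?_) fun {T T'} h b => ?_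
  · refine (ConcreteCategory.congr_hom (Scheme.Hom.appLE_comp_appLE τ.i fst _ _ T.toOpens (hle T)
      (preimage_imOpen τ _).ge) b).trans ?_
    simp only [hi]
    rw [Scheme.Hom.appLE]
    simp
    exact ConcreteCategory.congr_hom (X.presheaf.map_id _) b
  · have h1 : (xk k X).appLE ⊤ T.toOpens le_top ≫ fst.appLE T.toOpens (imOpen τ T.toOpens) (hle T) =
        (Art.specMap (Art.ofBase (Art.dual k k))).app ⊤ ≫ τ.f.appLE ⊤ (imOpen τ T.toOpens) le_top := by
      refine (Scheme.Hom.appLE_comp_appLE fst (xk k X) _ _ _ le_top (hle T)).trans ?_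
      simp only [hf]
      exact Scheme.Hom.comp_appLE τ.f _ _ _ _
    refine (ConcreteCategory.congr_hom h1 ((Scheme.ΓSpecIso (CommRingCat.of k)).inv t)).trans ?_
    exact ConcreteCategory.congr_hom (Scheme.ΓSpecIso_inv_naturality_assoc
      (CommRingCat.ofHom (Art.ofBase (Art.dual k k)).toAlgHom.toRingHom)
      (τ.f.appLE ⊤ (imOpen τ T.toOpens) le_top)).symm t
  · exact (ConcreteCategory.congr_hom (Scheme.Hom.appLE_map fst (hle T)
      (homOfLE (imOpen_mono τ (AffineZariskiSite.toOpens_mono h))).op) b).trans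
      (ConcreteCategory.congr_hom (Scheme.Hom.map_appLE fst (hle T')
      (homOfLE (AffineZariskiSite.toOpens_mono h)).op) b).symm

end OfSch

end Groth.Agent.DefFin29
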