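import Groth.Agent.DefFin29.Exist
import Groth.Agent.DefFin29.Retract
import Groth.Agent.NormalLib.Finite
import Groth.Agent.KZ.LFRes
import Groth.Agent.DefTan29.HH

/-!
The tangent space of the deformation functor of a proper scheme closed in a smooth scheme is finite dimensional.
-/

universe u

open CategoryTheory CategoryTheory.Limits AlgebraicGeometry TopologicalSpace Opposite IsLocalRing Abelian

set_option backward.isDefEq.respectTransparency false
set_option backward.isDefEq.respectTransparency.types false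

noncomputable section

namespace Groth.Agent.DefFin29

open Groth.Agent.AModX Groth.Agent.DefGlueLib Groth.Agent.DefTan29 Groth.Agent.HomTan29 Groth.Agent.AffDefLib Scheme
  ArtFun

variable {k : Type u} [Field k] {X P : Scheme.{u}} [X.Over (Spec (CommRingCat.of k))]
  [QuasiSeparated (xk k X)] {y : P ⟶ Art.specPt k} [QuasiSeparated y] {c : X ⟶ P}

variable (c) in
/-- The ideal of the closed subscheme. -/
abbrev Ic : P.Modules := kernel (ClSub.unitToPush c)

theorem app_ι_eq_zero {W : P.Opens} (σ : Γ(Ic c, W)) :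
    (c.app W).hom ((kernel.ι (ClSub.unitToPush c)).app W σ) = 0 := by
  have := congrArg (fun φ : Ic c ⟶ (Scheme.Modules.pushforward c).obj (Coh.structureModule X) => φ.app W σ)
    (kernel.condition (ClSub.unitToPush c))
  exact this

theorem exists_ι_eq {W : P.Opens} {s : Γ(P, W)} (hs : (c.app W).hom s = 0) :
    ∃ σ : Γ(Ic c, W), (kernel.ι (ClSub.unitToPush c)).app W σ = s := by
  let S := ShortComplex.mk (kernel.ι (ClSub.unitToPush c)) (ClSub.unitToPush c) (kernel.condition _)
  have hS : S.Exact := ShortComplex.exact_kernel _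
  exact BasisHom.exists_app_eq_of_exact (S := S) hS W s hs

variable (c) in
/-- An equation as a section. -/
def eqn {W : P.Opens} (σ : Γ(Ic c, W)) : {s : Γ(P, W) // (c.app W).hom s = 0} :=
  ⟨(kernel.ι (ClSub.unitToPush c)).app W σ, app_ι_eq_zero σ⟩

/-- Maps from the ideal to functions, as data. -/
def homVal (η : (Scheme.Modules.pullback c).obj (Ic c) ⟶ Coh.structureModule X) (W : P.Opens) (σ : Γ(Ic c, W)) :
    Γ(X, c ⁻¹ᵁ W) :=
  fn (((Scheme.Modules.pullbackPushforwardAdjunction c).homEquiv _ _ η).app W σ)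

theorem homVal_apply (η : (Scheme.Modules.pullback c).obj (Ic c) ⟶ Coh.structureModule X) (W : P.Opens)
    (σ : Γ(Ic c, W)) : homVal η W σ =
      fn (η.app (c ⁻¹ᵁ W) (((Scheme.Modules.pullbackPushforwardAdjunction c).unit.app (Ic c)).app W σ)) := by
  rw [homVal, Adjunction.homEquiv_unit]
  rfl

theorem homVal_add (η η' : (Scheme.Modules.pullback c).obj (Ic c) ⟶ Coh.structureModule X) (W : P.Opens)
    (σ : Γ(Ic c, W)) : homVal (η + η') W σ = homVal η W σ + homVal η' W σ := by
  rw [homVal_apply, homVal_apply, homVal_apply]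
  rfl

theorem homVal_smul (t : k) (η : (Scheme.Modules.pullback c).obj (Ic c) ⟶ Coh.structureModule X) (W : P.Opens)
    (σ : Γ(Ic c, W)) : homVal (t • η) W σ = algΓ k (c ⁻¹ᵁ W) t * homVal η W σ := by
  rw [homVal_apply, homVal_apply, KLin.smul_app_apply]
  rfl

theorem homVal_ext {η η' : (Scheme.Modules.pullback c).obj (Ic c) ⟶ Coh.structureModule X}
    (h : ∀ W σ, homVal η W σ = homVal η' W σ) : η = η' := by
  refine ((Scheme.Modules.pullbackPushforwardAdjunction c).homEquiv _ _).injective ?_
  refine Scheme.Modules.hom_ext _ _ fun W => ?_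
  ext σ
  exact h W σ

variable {ι : Type u} {V : ι → P.Opens}

/-- The opens on the source. -/
abbrev pU (c : X ⟶ P) (V : ι → P.Opens) : ι → X.Opens := fun i => c ⁻¹ᵁ V i

section Phi

variable {E : PDef (xk k X) (Art.dual k k)} {L : ∀ i, LiftF y c E (pU c V i)} {φ : EqFun c (pU c V)}
  (hφ : IsPhi L φ)

include hφ in
theorem phi_add (W : P.Opens) (i : ι) (s t r : {s : Γ(P, W) // (c.app W).hom s = 0}) (h : r.1 = s.1 + t.1) :
    φ W i r = φ W i s + φ W i t :=
  ext_ins E fun T hT => by rw [map_add, ins_add deps_small, hφ, hφ, hφ, h, map_add]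

include hφ in
theorem phi_mul (W : P.Opens) (i : ι) (a : Γ(P, W)) (s r : {s : Γ(P, W) // (c.app W).hom s = 0})
    (h : r.1 = a * s.1) : φ W i r = rs inf_le_left ((c.app W).hom a) * φ W i s :=
  ext_ins E fun T hT => by
    rw [hφ, h, map_mul, ← hφ W i s T hT, mul_ins deps_small, map_mul, rs_rs, (L i).q_f]

include hφ in
theorem phi_res {W W' : P.Opens} (hW : W' ≤ W) (i : ι) (s : {s : Γ(P, W) // (c.app W).hom s = 0})
    (r : {s : Γ(P, W') // (c.app W').hom s = 0}) (h : r.1 = rs hW s.1) :
    φ W' i r = rs (inf_le_inf_right _ (c.preimage_mono hW)) (φ W i s) :=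
  ext_ins E fun T hT => by
    rw [rs_rs, hφ, hφ, h]
    have hself : ∀ z : E.R.obj (op T), (E.R.map (homOfLE (le_refl T)).op).hom z = z := fun z =>
      ConcreteCategory.congr_hom (E.R.map_id _) z
    rw [← (L i).nat hW (le_refl T) (hT.trans inf_le_right) (hT.trans (inf_le_left.trans (c.preimage_mono hW)))
      (hT.trans inf_le_right) (hT.trans inf_le_left) s.1, hself]

include hφ in
theorem phi_agree (hd : ∀ i j W s, dv (L i) (L j) W s = 0) (W : P.Opens) (i j : ι)
    (s : {s : Γ(P, W) // (c.app W).hom s = 0}) {O : X.Opens} (h : O ≤ c ⁻¹ᵁ W ⊓ pU c V i)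
    (h' : O ≤ c ⁻¹ᵁ W ⊓ pU c V j) : rs h (φ W i s) = rs h' (φ W j s) :=
  ext_ins E fun T hT => by
    rw [rs_rs, rs_rs, hφ, hφ]
    have := dv_spec (L i) (L j) W s.1 T (le_inf ((hT.trans h).trans inf_le_left)
      (le_inf ((hT.trans h).trans inf_le_right) ((hT.trans h').trans inf_le_right)))
    rw [hd, map_zero, ins_zero deps_small] at this
    exact (sub_eq_zero.1 this.symm).symm

include hφ in
theorem exists_hom (hd : ∀ i j W s, dv (L i) (L j) W s = 0) (hU : iSup (pU c V) = ⊤) :
    ∃ η : (Scheme.Modules.pullback c).obj (Ic c) ⟶ Coh.structureModule X,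
      ∀ W i σ, rs inf_le_left (homVal η W σ) = φ W i (eqn c σ) := by
  have key : ∀ (W : P.Opens) (σ : Γ(Ic c, W)), ∃! v : Γ(X, c ⁻¹ᵁ W),
      ∀ i, rs inf_le_left v = φ W i (eqn c σ) := fun W σ => by
    refine TopCat.Sheaf.existsUnique_gluing' X.sheaf (fun i => c ⁻¹ᵁ W ⊓ pU c V i) (c ⁻¹ᵁ W)
      (fun i => homOfLE inf_le_left) (fun p hp => ?_) (fun i => φ W i (eqn c σ)) fun i j =>
        phi_agree hφ hd W i j _ inf_le_left inf_le_right
    obtain ⟨i, hi⟩ := Opens.mem_iSup.1 (hU.ge (Set.mem_univ p))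
    exact Opens.mem_iSup.2 ⟨i, hp, hi⟩
  choose g hg hguniq using key
  let α : Ic c ⟶ (Scheme.Modules.pushforward c).obj (Coh.structureModule X) :=
    ⟨PresheafOfModules.homMk
      { app := fun W => AddCommGrpCat.ofHom (AddMonoidHom.mk' (fun σ => sec (g W.unop σ))
          fun a b => (hguniq W.unop (a + b) _ fun i => (map_add _ _ _).trans
            ((congrArg₂ (· + ·) (hg W.unop a i) (hg W.unop b i)).trans (phi_add hφ W.unop i _ _ _
              (map_add ((kernel.ι (ClSub.unitToPush c)).app W.unop).hom a b)).symm)).symm)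
        naturality := fun W W' f => by
          ext σ
          refine (hguniq W'.unop _ _ fun i => ?_).symm
          show rs inf_le_left (rs (c.preimage_mono f.unop.le) (g W.unop σ)) = _
          refine Eq.trans ?_ (phi_res hφ f.unop.le i (eqn c σ) _
            (AModX.app_res (kernel.ι (ClSub.unitToPush c)) f.unop.le σ)).symm
          exact (rs_rs _ _ _).trans ((congrArg (rs _) (hg W.unop σ i).symm).trans (rs_rs _ _ _)).symm }
      fun W r σ => by
        refine (hguniq W.unop _ _ fun i => ?_).symm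
        show rs inf_le_left ((c.app W.unop).hom r * g W.unop σ) = _
        rw [map_mul, hg W.unop σ i]
        exact (phi_mul hφ W.unop i r (eqn c σ) _
          (Scheme.Modules.Hom.app_smul (kernel.ι (ClSub.unitToPush c)) r σ)).symm⟩
  refine ⟨((Scheme.Modules.pullbackPushforwardAdjunction c).homEquiv _ _).symm α, fun W i σ => ?_⟩
  rw [homVal, Equiv.apply_symm_apply]
  exact hg W σ i

end Phi

theorem dv_eq_zero {E : PDef (xk k X) (Art.dual k k)} {U : ι → X.Opens} {L : ∀ i, LiftF y c E (U i)}
    (h : IsDelta L 0) (i j : ι) (W : P.Opens) (s : Γ(P, W)) : dv (L i) (L j) W s = 0 := by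
  rw [← h W s (i, j), toG_apply]
  rfl

/-- A cocycle which is a coboundary can be removed by modifying the lifts. -/
theorem exists_modify {t : (defFunctor (Λ := k) X (xk k X)).obj (Art.dual k k)} {U : ι → X.Opens}
    {β : omP y c ⟶ C0 U} {φ : EqFun c U} (h : InRel t (β ≫ cobZ U) φ) :
    ∃ φ', InRel t (0 : omP y c ⟶ Zc U) φ' := by
  obtain ⟨E, L, hE, hα, -⟩ := h
  let b : ∀ i : ι, Der1 y c (U i) := fun i =>
    { D := fun W T h hW => AddMonoidHom.mk'
        (fun s => - rs (le_inf hW h) (fn (toFam ((toG y c (C0 U) β).D W s) i))) fun a a' => by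
          refine Eq.trans ?_ (neg_add _ _)
          refine congrArg Neg.neg (Eq.trans ?_ (map_add _ _ _))
          exact congrArg (fun v => rs (le_inf hW h) (fn (toFam v i))) (map_add _ a a')
      mul := fun W T h hW a a' => by
        show - rs (le_inf hW h) (fn (toFam ((toG y c (C0 U) β).D W (a * a')) i)) =
          rs hW ((c.app W).hom a) * (- rs (le_inf hW h) (fn (toFam ((toG y c (C0 U) β).D W a') i))) +
            rs hW ((c.app W).hom a') * (- rs (le_inf hW h) (fn (toFam ((toG y c (C0 U) β).D W a) i)))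
        rw [(toG y c (C0 U) β).mul]
        show - rs (le_inf hW h) (rs inf_le_left ((c.app W).hom a) * fn (toFam ((toG y c (C0 U) β).D W a') i) +
          rs inf_le_left ((c.app W).hom a') * fn (toFam ((toG y c (C0 U) β).D W a) i)) = _
        rw [map_add, map_mul, map_mul, rs_rs, rs_rs]
        ring
      nat := fun {W W'} hWW {T T'} hT h hW h' hW' s => by
        show rs _ (- rs _ (fn (toFam ((toG y c (C0 U) β).D W s) i))) =
          - rs _ (fn (toFam ((toG y c (C0 U) β).D W' (rs hWW s)) i))
        rw [(toG y c (C0 U) β).res, map_neg, rs_rs]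
        refine congrArg Neg.neg ?_
        exact (rs_rs _ _ _).symm
      const := fun T h hW t => by
        show - rs _ (fn (toFam ((toG y c (C0 U) β).D ⊤ (kst P y ⊤ t)) i)) = 0
        rw [(toG y c (C0 U) β).const]
        exact (congrArg Neg.neg (map_zero _)).trans neg_zero }
  let L' : ∀ i, LiftF y c E (U i) := fun i => (L i).shift deps_small (b i)
  obtain ⟨φ', hφ'⟩ := exists_phi L'
  refine ⟨φ', E, L', hE, fun W s p => ?_, hφ'⟩
  rw [toG_apply]
  show (0 : Γ(X, c ⁻¹ᵁ W ⊓ U2 U p)) = _
  refine ext_ins E fun T hT => ?_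
  rw [dv_spec, map_zero, ins_zero deps_small, shift_f, shift_f]
  have e := dv_spec (L p.1) (L p.2) W s T hT
  have e' : dv (L p.1) (L p.2) W s =
      rs (inf_le_inf_left _ inf_le_right) (fn (toFam ((toG y c (C0 U) β).D W s) p.2)) -
        rs (inf_le_inf_left _ inf_le_left) (fn (toFam ((toG y c (C0 U) β).D W s) p.1)) := by
    rw [← hα W s p, toG_comp]
    rfl
  have neg : ∀ b : Γ(X, T.toOpens), ins E deps T (-b) = - ins E deps T b := fun b => by
    refine eq_neg_of_add_eq_zero_left ?_
    rw [← ins_add deps_small, neg_add_cancel, ins_zero deps_small]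
  rw [e', sub_eq_add_neg, map_add, map_neg, rs_rs, rs_rs, ins_add deps_small, neg] at e
  show (0 : E.R.obj (op T)) = (_ + ins E deps T (- rs _ _)) - (_ + ins E deps T (- rs _ _))
  rw [neg, neg]
  linear_combination e

variable [IsClosedImmersion c]

theorem finite_ext [IsProper (xk k X)] [HasExt.{u} X.Modules] [Smooth y] :
    Module.Finite k (Ext.{u} (omP y c) (Coh.structureModule X) 1) := by
  haveI := CurveCohLib.isNoetherian_of_proper (k := k) (X := X)
  have hM : FlatMod.IsFinLocFree (omP y c) := by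
    letI : P.Over (Spec (CommRingCat.of k)) := ⟨y⟩
    haveI : QuasiSeparated (P ↘ Spec (CommRingCat.of k)) := inferInstanceAs (QuasiSeparated y)
    haveI : Smooth (P ↘ Spec (CommRingCat.of k)) := inferInstanceAs (Smooth y)
    exact KFlatLib.isFinLocFree_pullback c (DefTan29.isFinLocFree_omega' (k := k) (X := P))
  obtain ⟨e⟩ := PnDual.nonempty_ext_linearEquiv_HH (A := k) hM (Coh.structureModule X) 1
  haveI := CurveCohLib.finite_HH (k := k) (SheafHomX.isCoh_hom (KZ.LFRes.flf_isCoh hM)
    QCoh.isCoh_structureModule') 1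
  exact Module.Finite.equiv e.symm

theorem finite_hom_ideal [IsProper (xk k X)] [IsLocallyNoetherian P] :
    Module.Finite k ((Scheme.Modules.pullback c).obj (Ic c) ⟶ Coh.structureModule X) := by
  haveI := CurveCohLib.isNoetherian_of_proper (k := k) (X := X)
  have hI : Coh.IsCoh (Ic c) := QCoh.isCoh_kernel QCoh.isCoh_structureModule'
    (QCoh.isCoh_pushforward_finite c QCoh.isCoh_structureModule') _
  haveI := NormalLib.hasSheafHom ((Scheme.Modules.pullback c).obj (Ic c))
  obtain ⟨e⟩ := NormalLib.nonempty_hom_linearEquiv_HH (A := k) ((Scheme.Modules.pullback c).obj (Ic c))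
    (Coh.structureModule X)
  haveI := CurveCohLib.finite_HH (k := k) (SheafHomX.isCoh_of_iso
    ((AmpleVan.sheafHomIso ((Scheme.Modules.pullback c).obj (Ic c))).app (Coh.structureModule X)).symm
    (SheafHomX.isCoh_hom (KZ.ClosedDev.isCoh_pull c hI) QCoh.isCoh_structureModule')) 0
  exact Module.Finite.equiv e.symm

end Groth.Agent.DefFin29
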