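import Groth.Agent.DefFin29.Lift
import Groth.Agent.DefFin29.CovSeq
import Groth.Agent.ArtFunLib.Tangent

/-!
The linear relation between first order deformations and the data of their local lifts.
-/

universe u

open CategoryTheory CategoryTheory.Limits AlgebraicGeometry TopologicalSpace Opposite IsLocalRing

set_option maxHeartbeats 300000
set_option backward.isDefEq.respectTransparency false
set_option backward.isDefEq.respectTransparency.types false

noncomputable section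

namespace Groth.Agent.DefFin29

open Groth.Agent.AModX Groth.Agent.DefGlueLib Groth.Agent.DefTan29 Groth.Agent.HomTan29 Groth.Agent.AffDefLib Scheme
  ArtFun

variable {k : Type u} [Field k] {X P : Scheme.{u}} [X.Over (Spec (CommRingCat.of k))]
  [QuasiSeparated (xk k X)] {y : P ⟶ Art.specPt k} [QuasiSeparated y] {c : X ⟶ P} {C C' : Art k k}

/-- The scalars on functions. -/
abbrev algΓ (k : Type u) [Field k] {X : Scheme.{u}} [X.Over (Spec (CommRingCat.of k))] (O : X.Opens) :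
    k →+* Γ(X, O) :=
  (rs (le_top : O ≤ ⊤)).comp (Coh.toGlobal (X ↘ Spec (CommRingCat.of k)))

theorem rs_algΓ {O O' : X.Opens} (h : O' ≤ O) (t : k) : rs h (algΓ k O t) = algΓ k O' t :=
  rs_rs _ _ _

theorem algΓ_str (T : AffineZariskiSite X) (t : k) : algΓ k T.toOpens t = str (xk k X) T t := rfl

theorem dual2_mem {m : Art.dual2 k k} (hm : m ∈ maximalIdeal (Art.dual2 k k)) :
    ∃ a b : k, m = algebraMap k (Art.dual2 k k) a * eps2 k 0 + algebraMap k (Art.dual2 k k) b * eps2 k 1 := by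
  rw [Art.mem_maximalIdeal_iff] at hm
  have key : ∀ z : TrivSqZeroExt k (k × k), z.fst = 0 → z = TrivSqZeroExt.inl z.snd.1 * TrivSqZeroExt.inr (1, 0) +
      TrivSqZeroExt.inl z.snd.2 * TrivSqZeroExt.inr (0, 1) := fun z hz =>
    TrivSqZeroExt.ext (by simp [hz]) (by simp)
  exact ⟨_, _, key m hm⟩

theorem ins_smul {D : PDef (xk k X) C} {e : C} (he : DefTan29.Small e) (T : AffineZariskiSite X) (t : k)
    (hte : DefTan29.Small (algebraMap k C t * e)) (b : Γ(X, T.toOpens)) :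
    ins D (algebraMap k C t * e) T b = ins D e T (str (xk k X) T t * b) := by
  obtain ⟨z, hz⟩ := map_qU_surjective D T b
  rw [ins_eq D hte z hz, ins_eq D he (D.a (op T) (algebraMap k C t) * z) (by
    rw [map_mul]
    exact congrArg₂ (· * ·) (((D.isDef (op T)).comm _).trans (congrArg (str (xk k X) T) (C.res.commutes t))) hz),
    map_mul, mul_comm (D.a (op T) (algebraMap k C t)), mul_assoc]

/-- The sum along `plus`. -/
theorem plus_ins {D : PDef (xk k X) (Art.dual2 k k)} {E₁ E₂ E : PDef (xk k X) (Art.dual k k)}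
    (φ₁ : PHom Art.pr₁ D E₁) (φ₂ : PHom Art.pr₂ D E₂) (φ : PHom Art.plus D E) {T : AffineZariskiSite X}
    {z : D.R.obj (op T)} (hz : (D.qU T).hom z = 0) {b₁ b₂ : Γ(X, T.toOpens)}
    (h₁ : (φ₁.app.app (op T)).hom z = ins E₁ deps T b₁) (h₂ : (φ₂.app.app (op T)).hom z = ins E₂ deps T b₂) :
    (φ.app.app (op T)).hom z = ins E deps T (b₁ + b₂) := by
  have hle : (maximalIdeal (Art.dual2 k k)).map (D.a (op T)) ≤
      Ideal.span {D.a (op T) (eps2 k 0), D.a (op T) (eps2 k 1)} := Ideal.map_le_iff_le_comap.2 fun m hm => by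
    obtain ⟨a, b, rfl⟩ := dual2_mem hm
    rw [Ideal.mem_comap, map_add, map_mul, map_mul]
    exact Ideal.mem_span_pair.2 ⟨_, _, rfl⟩
  obtain ⟨w₀, w₁, hw⟩ := Ideal.mem_span_pair.1 (hle ((D.isDef (op T)).ker_le (RingHom.mem_ker.2 hz)))
  have hq : ∀ {E' : PDef (xk k X) (Art.dual k k)} {g : Art.dual2 k k ⟶ Art.dual k k} (ψ : PHom g D E') (j : Fin 2)
      (w : D.R.obj (op T)),
      (ψ.app.app (op T)).hom (w * D.a (op T) (eps2 k j)) = ins E' (g (eps2 k j)) T ((D.qU T).hom w) := fun ψ j w => by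
    rw [map_mul]
    refine (congrArg (_ * ·) (ψ.comm (op T) (eps2 k j))).trans ?_
    exact (mul_comm _ _).trans (ins_eq _ (small_image _ j) ((ψ.app.app (op T)).hom w) (phom_q ψ (op T) w)).symm
  have e₁ : (φ₁.app.app (op T)).hom z = ins E₁ deps T ((D.qU T).hom w₀) := by
    rw [← hw, map_add, hq, hq, pr_eps2.1, pr_eps2.2.1, ins_zero_left, add_zero]
  have e₂ : (φ₂.app.app (op T)).hom z = ins E₂ deps T ((D.qU T).hom w₁) := by
    rw [← hw, map_add, hq, hq, pr_eps2.2.2.1, pr_eps2.2.2.2.1, ins_zero_left, zero_add]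
  rw [ins_injective (h₁.symm.trans e₁), ins_injective (h₂.symm.trans e₂), ← hw, map_add, hq, hq,
    pr_eps2.2.2.2.2.1, pr_eps2.2.2.2.2.2, ins_add deps_small]

theorem map_scale_deps (t : k) :
    Art.scale t (deps : Art.dual k k) = algebraMap k (Art.dual k k) t * deps := by
  show (Art.tszeMap (t • LinearMap.id) : DualNumber k →ₐ[k] DualNumber k) (TrivSqZeroExt.inr 1) =
    algebraMap k (DualNumber k) t * TrivSqZeroExt.inr 1
  refine TrivSqZeroExt.ext ?_ ?_ <;> simp [TrivSqZeroExt.algebraMap_eq_inl]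

theorem scale_ins {E E' : PDef (xk k X) (Art.dual k k)} (t : k) (φ : PHom (Art.scale t) E E')
    {T : AffineZariskiSite X} {z : E.R.obj (op T)} {b : Γ(X, T.toOpens)} (hz : z = ins E deps T b) :
    (φ.app.app (op T)).hom z = ins E' deps T (algΓ k T.toOpens t * b) := by
  have hs : DefTan29.Small (Art.scale t (deps : Art.dual k k)) :=
    small_dual ((Art.res_app (Art.scale t) _).trans (TrivSqZeroExt.fst_inr k 1))
  rw [hz, app_ins φ deps_small hs]
  have hs' : DefTan29.Small (algebraMap k (Art.dual k k) t * deps) := map_scale_deps t ▸ hs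
  rw [map_scale_deps, ins_smul deps_small T t hs', algΓ_str]

variable {ι : Type u} {U : ι → X.Opens}

/-- The class data of a family of lifts: the differences. -/
def IsDelta {E : PDef (xk k X) (Art.dual k k)} (L : ∀ i, LiftF y c E (U i)) (α : omP y c ⟶ Zc U) : Prop :=
  ∀ (W : P.Opens) (s : Γ(P, W)) (p : ι × ι),
    fn (toFam (zv U ((toG y c (Zc U) α).D W s)) p) = dv (L p.1) (L p.2) W s

variable (c U) in
/-- Functions on the equations of `X`. -/
abbrev EqFun : Type u := ∀ (W : P.Opens) (i : ι), {s : Γ(P, W) // (c.app W).hom s = 0} → Γ(X, c ⁻¹ᵁ W ⊓ U i)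

/-- The values of lifts on the equations. -/
def IsPhi {E : PDef (xk k X) (Art.dual k k)} (L : ∀ i, LiftF y c E (U i)) (φ : EqFun c U) : Prop :=
  ∀ (W : P.Opens) (i : ι) (s : {s : Γ(P, W) // (c.app W).hom s = 0}) (T : AffineZariskiSite X)
    (hT : T.toOpens ≤ c ⁻¹ᵁ W ⊓ U i),
    ins E deps T (rs hT (φ W i s)) = (L i).f W T (hT.trans inf_le_right) (hT.trans inf_le_left) s.1

theorem exists_phi {E : PDef (xk k X) (Art.dual k k)} (L : ∀ i, LiftF y c E (U i)) :
    ∃ φ : EqFun c U, IsPhi L φ := by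
  have key : ∀ (W : P.Opens) (i : ι) (s : {s : Γ(P, W) // (c.app W).hom s = 0}), ∃ v : Γ(X, c ⁻¹ᵁ W ⊓ U i),
      ∀ (T : AffineZariskiSite X) (hT : T.toOpens ≤ c ⁻¹ᵁ W ⊓ U i),
        ins E deps T (rs hT v) = (L i).f W T (hT.trans inf_le_right) (hT.trans inf_le_left) s.1 := by
    intro W i s
    let J := {T : AffineZariskiSite X // T.toOpens ≤ c ⁻¹ᵁ W ⊓ U i}
    have hb : ∀ j : J, ∃ b, ins E deps j.1 b = (L i).f W j.1 (j.2.trans inf_le_right) (j.2.trans inf_le_left) s.1 :=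
      fun j => exists_ins (by rw [(L i).q_f, s.2, map_zero])
    choose b hb using hb
    obtain ⟨v, hv, -⟩ := TopCat.Sheaf.existsUnique_gluing' X.sheaf (fun j : J => j.1.toOpens) (c ⁻¹ᵁ W ⊓ U i)
      (fun j => homOfLE j.2)
      (fun p hp => by
        obtain ⟨T, hpT, hT⟩ := DefGlueLib.exists_site_le hp
        exact Opens.mem_iSup.2 ⟨⟨T, hT⟩, hpT⟩)
      b
      (fun j j' => DefGlueLib.eq_of_locally fun p hp => by
        obtain ⟨T, hTj, hTj', hpT⟩ := DefGlueLib.exists_common j.1 j'.1 hp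
        refine ⟨T.toOpens, le_inf (AffineZariskiSite.toOpens_mono hTj) (AffineZariskiSite.toOpens_mono hTj'), hpT, ?_⟩
        have h' : ∀ (j : J) (h : T ≤ j.1), ins E deps T (rs (AffineZariskiSite.toOpens_mono h) (b j)) =
            (L i).f W T (((AffineZariskiSite.toOpens_mono h).trans j.2).trans inf_le_right)
              (((AffineZariskiSite.toOpens_mono h).trans j.2).trans inf_le_left) s.1 := fun j h => by
          rw [← map_ins deps_small (homOfLE h).op, hb, (L i).nat le_rfl h _ _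
            (((AffineZariskiSite.toOpens_mono h).trans j.2).trans inf_le_right)
            (((AffineZariskiSite.toOpens_mono h).trans j.2).trans inf_le_left)]
          rw [show rs (le_refl W) s.1 = s.1 from resR_self s.1]
        exact (rs_rs inf_le_left _ _).trans ((ins_injective ((h' j hTj).trans (h' j' hTj').symm)).trans
          (rs_rs inf_le_right _ _).symm))
    exact ⟨v, fun T hT => (congrArg (ins E deps T) (hv ⟨T, hT⟩)).trans (hb ⟨T, hT⟩)⟩
  choose φ hφ using key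
  exact ⟨φ, hφ⟩

theorem exists_delta {E : PDef (xk k X) (Art.dual k k)} (L : ∀ i, LiftF y c E (U i)) :
    ∃ α : omP y c ⟶ Zc U, IsDelta L α := by
  let v := fun (W : P.Opens) (s : Γ(P, W)) =>
    (ofFam fun p : ι × ι => sec (dv (L p.1) (L p.2) W s) : Γ(C1 U, c ⁻¹ᵁ W))
  have hv : ∀ W s, IsCoc U (v W s) := fun W s i j l =>
    show rs _ (dv (L i) (L l) W s) = rs _ (dv (L i) (L j) W s) + rs _ (dv (L j) (L l) W s) from
    dv_cocycle (L i) (L j) (L l) W s _ _ _
  let G : GDer y c (Zc U) :=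
    { D := fun W => AddMonoidHom.mk' (fun s => (⟨v W s, hv W s⟩ : (cocs U).mem (c ⁻¹ᵁ W))) fun a b =>
        Subtype.ext (funext fun p => dv_add _ _ W a b)
      mul := fun W a b => Subtype.ext (funext fun p => dv_mul _ _ W a b)
      res := fun {W V} h a => Subtype.ext (funext fun p => dv_res _ _ h a)
      const := fun t => Subtype.ext (funext fun p => dv_const _ _ t) }
  obtain ⟨α, hα⟩ := toG_surjective y c (Zc U) G
  refine ⟨α, fun W s p => ?_⟩
  rw [hα]
  rfl

theorem delta_unique {E E' : PDef (xk k X) (Art.dual k k)} {L : ∀ i, LiftF y c E (U i)}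
    {L' : ∀ i, LiftF y c E' (U i)} {α α' : omP y c ⟶ Zc U} (h : IsDelta L α) (h' : IsDelta L' α')
    (e : ∀ (W : P.Opens) (s : Γ(P, W)) (p : ι × ι), dv (L p.1) (L p.2) W s = dv (L' p.1) (L' p.2) W s) : α = α' :=
  toG_injective y c (Zc U) (GDer.ext fun W s => Subtype.ext (funext fun p =>
    ((h W s p).trans (e W s p)).trans (h' W s p).symm))

/-- Equivalent deformations carry the same data. -/
theorem dv_push {E E' : PDef (xk k X) (Art.dual k k)} (φ : PHom (𝟙 _) E E') {U₁ U₂ : X.Opens}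
    (L₁ : LiftF y c E U₁) (L₂ : LiftF y c E U₂) (W : P.Opens) (s : Γ(P, W)) :
    dv (L₁.push φ) (L₂.push φ) W s = dv L₁ L₂ W s :=
  ext_ins E' fun T hT => by
    rw [dv_spec]
    show (φ.app.app (op T)).hom _ - (φ.app.app (op T)).hom _ = _
    rw [← map_sub, ← dv_spec L₁ L₂ W s T hT]
    exact app_ins φ deps_small deps_small _

/-- The conditions of the relation. -/
def InRel (t : (defFunctor (Λ := k) X (xk k X)).obj (Art.dual k k)) (α : omP y c ⟶ Zc U) (φ : EqFun c U) : Prop :=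
  ∃ (E : PDef (xk k X) (Art.dual k k)) (L : ∀ i, LiftF y c E (U i)),
    E.toDefSch.cl = t ∧ IsDelta L α ∧ IsPhi L φ

/-- Lifts exist on the pieces of every deformation. -/
def HasLifts (k : Type u) [Field k] {X P : Scheme.{u}} [X.Over (Spec (CommRingCat.of k))] [QuasiSeparated (xk k X)]
    (y : P ⟶ Art.specPt k) (c : X ⟶ P) {ι : Type u} (U : ι → X.Opens) : Prop :=
  ∀ (A : Art k k) (ξ : DefSch X (xk k X) A) (i : ι), Nonempty (LiftF y c (ofSch ξ) (U i))

theorem cl_of_sec {A B : Art k k} (g : A ⟶ B) (ξ : DefSch X (xk k X) A) :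
    (ofSch (ξ.baseChange g)).toDefSch.cl = (defFunctor X (xk k X)).map g ξ.cl :=
  cl_toDefSch_ofSch _

theorem InRel.add (hL : HasLifts k y c U) {t₁ t₂ : (defFunctor (Λ := k) X (xk k X)).obj (Art.dual k k)}
    {α₁ α₂ : omP y c ⟶ Zc U} {φ₁ φ₂ : EqFun c U} (h₁ : InRel t₁ α₁ φ₁) (h₂ : InRel t₂ α₂ φ₂)
    (z : (defFunctor (Λ := k) X (xk k X)).obj (Art.dual2 k k))
    (hz₁ : (defFunctor X (xk k X)).map Art.pr₁ z = t₁) (hz₂ : (defFunctor X (xk k X)).map Art.pr₂ z = t₂) :
    InRel ((defFunctor X (xk k X)).map Art.plus z) (α₁ + α₂) (φ₁ + φ₂) := by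
  obtain ⟨ξ, rfl⟩ := cl_surjective z
  obtain ⟨E₁, L₁, rfl, hα₁, hφ₁⟩ := h₁
  obtain ⟨E₂, L₂, rfl, hα₂, hφ₂⟩ := h₂
  let D := ofSch ξ
  let p₁ := (Ov.proj ξ Art.pr₁).sec
  let p₂ := (Ov.proj ξ Art.pr₂).sec
  let pp := (Ov.proj ξ Art.plus).sec
  obtain ⟨e₁⟩ := cl_eq_iff.1 ((cl_of_sec Art.pr₁ ξ).trans hz₁)
  obtain ⟨e₂⟩ := cl_eq_iff.1 ((cl_of_sec Art.pr₂ ξ).trans hz₂)
  let ψ₁ : PHom (𝟙 _) E₁ (ofSch (ξ.baseChange Art.pr₁)) := phomOfIso e₁
  let ψ₂ : PHom (𝟙 _) E₂ (ofSch (ξ.baseChange Art.pr₂)) := phomOfIso e₂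
  let L₀ : ∀ i, LiftF y c D (U i) := fun i => (hL _ ξ i).some
  let β₁ := fun i => diffDer ((L₀ i).push p₁) ((L₁ i).push ψ₁)
  let β₂ := fun i => diffDer ((L₀ i).push p₂) ((L₂ i).push ψ₂)
  let L : ∀ i, LiftF y c D (U i) := fun i => ((L₀ i).shift (small_eps2 0) (β₁ i)).shift (small_eps2 1) (β₂ i)
  have hL₁ : ∀ i, (L i).push p₁ = (L₁ i).push ψ₁ := fun i => by
    rw [push_shift _ _ (small_image _ 1), push_shift _ _ (small_image _ 0)]
    refine Eq.trans ?_ (shift_diffDer ((L₀ i).push p₁) ((L₁ i).push ψ₁))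
    refine LiftF.ext fun W T h hW s => ?_
    simp only [shift_f, pr_eps2.1, pr_eps2.2.1, ins_zero_left, add_zero]
    rfl
  have hL₂ : ∀ i, (L i).push p₂ = (L₂ i).push ψ₂ := fun i => by
    rw [push_shift _ _ (small_image _ 1), push_shift _ _ (small_image _ 0)]
    refine Eq.trans ?_ (shift_diffDer ((L₀ i).push p₂) ((L₂ i).push ψ₂))
    refine LiftF.ext fun W T h hW s => ?_
    simp only [shift_f, pr_eps2.2.2.1, pr_eps2.2.2.2.1, ins_zero_left, add_zero]
    rfl
  refine ⟨ofSch (ξ.baseChange Art.plus), fun i => (L i).push pp, cl_of_sec _ ξ, fun W s p => ?_,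
    fun W i s T hT => ?_⟩
  · rw [toG_add]
    show fn (toFam (zv U ((toG y c (Zc U) α₁).D W s)) p) + fn (toFam (zv U ((toG y c (Zc U) α₂).D W s)) p) = _
    rw [hα₁, hα₂, ← dv_push ψ₁, ← dv_push ψ₂, ← hL₁, ← hL₁, ← hL₂, ← hL₂]
    refine ext_ins (ofSch (ξ.baseChange Art.plus)) fun T hT => ?_
    rw [map_add, dv_spec]
    refine Eq.trans (plus_ins p₁ p₂ pp
      (z := (L p.2).f W T (hT.trans (inf_le_right.trans inf_le_right)) (hT.trans inf_le_left) s -
        (L p.1).f W T (hT.trans (inf_le_right.trans inf_le_left)) (hT.trans inf_le_left) s) ?_ ?_ ?_).symm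
      (map_sub _ _ _)
    · rw [map_sub, (L p.2).q_f, (L p.1).q_f, sub_self]
    · rw [dv_spec, map_sub]
      rfl
    · rw [dv_spec, map_sub]
      rfl
  · show ins _ deps T (rs hT (φ₁ W i s + φ₂ W i s)) = _
    rw [map_add]
    have hw : ∀ {E E' : PDef (xk k X) (Art.dual k k)} {M : LiftF y c E (U i)} (ψ : PHom (𝟙 _) E E')
        {v : Γ(X, c ⁻¹ᵁ W ⊓ U i)},
        ins E deps T (rs hT v) = M.f W T (hT.trans inf_le_right) (hT.trans inf_le_left) s.1 →
        (M.push ψ).f W T (hT.trans inf_le_right) (hT.trans inf_le_left) s.1 = ins E' deps T (rs hT v) :=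
      fun ψ _ h => (congrArg (ψ.app.app (op T)).hom h.symm).trans (app_ins ψ deps_small deps_small _)
    have hz : (D.qU T).hom ((L i).f W T (hT.trans inf_le_right) (hT.trans inf_le_left) s.1) = 0 := by
      rw [(L i).q_f, s.2, map_zero]
    refine (plus_ins p₁ p₂ pp hz ?_ ?_).symm
    · rw [show (p₁.app.app (op T)).hom _ = ((L i).push p₁).f W T (hT.trans inf_le_right) (hT.trans inf_le_left) s.1
        from rfl, hL₁]
      exact hw ψ₁ (hφ₁ W i s T hT)
    · rw [show (p₂.app.app (op T)).hom _ = ((L i).push p₂).f W T (hT.trans inf_le_right) (hT.trans inf_le_left) s.1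
        from rfl, hL₂]
      exact hw ψ₂ (hφ₂ W i s T hT)

theorem InRel.smul (t₀ : k) {t : (defFunctor (Λ := k) X (xk k X)).obj (Art.dual k k)}
    {α : omP y c ⟶ Zc U} {φ : EqFun c U} (h : InRel t α φ) :
    InRel ((defFunctor X (xk k X)).map (Art.scale t₀) t) (t₀ • α)
      (fun W i s => algΓ k _ t₀ * φ W i s) := by
  obtain ⟨ξ, rfl⟩ := cl_surjective t
  obtain ⟨E, L, hE, hα, hφ⟩ := h
  obtain ⟨e⟩ := cl_eq_iff.1 ((cl_toDefSch_ofSch ξ).trans hE.symm)
  let p := (Ov.proj ξ (Art.scale t₀)).sec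
  let ψ : PHom (𝟙 _) E (ofSch ξ) := phomOfIso e
  refine ⟨ofSch (ξ.baseChange (Art.scale t₀)), fun i => ((L i).push ψ).push p, cl_of_sec _ ξ, fun W s q => ?_,
    fun W i s T hT => ?_⟩
  · rw [toG_smul]
    show rs inf_le_left (algΓ k (c ⁻¹ᵁ W) t₀) * fn (toFam (zv U ((toG y c (Zc U) α).D W s)) q) = _
    rw [hα, ← dv_push ψ]
    refine ext_ins (ofSch (ξ.baseChange (Art.scale t₀))) fun T hT => ?_
    rw [map_mul, rs_rs, dv_spec]
    rw [rs_algΓ]
    exact Eq.trans (scale_ins t₀ p (z := ((L q.2).push ψ).f W T (hT.trans (inf_le_right.trans inf_le_right))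
        (hT.trans inf_le_left) s -
      ((L q.1).push ψ).f W T (hT.trans (inf_le_right.trans inf_le_left)) (hT.trans inf_le_left) s)
      (dv_spec _ _ W s T hT).symm).symm (map_sub _ _ _)
  · show ins _ deps T (rs hT (algΓ k _ t₀ * φ W i s)) = _
    rw [map_mul, rs_algΓ]
    exact (scale_ins t₀ p ((congrArg (ψ.app.app (op T)).hom (hφ W i s T hT).symm).trans
      (app_ins ψ deps_small deps_small _))).symm

end Groth.Agent.DefFin29
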