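import Groth.Agent.DefFin29.Main

/-!
Finiteness of the tangent space of the deformation functor of a proper scheme closed in a smooth scheme.
-/

universe u

open CategoryTheory CategoryTheory.Limits AlgebraicGeometry TopologicalSpace Opposite IsLocalRing Abelian

set_option backward.isDefEq.respectTransparency false
set_option backward.isDefEq.respectTransparency.types false

noncomputable section

namespace Groth.Agent.DefFin29

open Groth.Agent.AModX Groth.Agent.DefGlueLib Groth.Agent.DefTan29 Groth.Agent.HomTan29 Groth.Agent.AffDefLib Scheme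
  ArtFun

variable {k : Type u} [Field k] {X P : Scheme.{u}} [X.Over (Spec (CommRingCat.of k))]
  [QuasiSeparated (xk k X)] {y : P ⟶ Art.specPt k} [QuasiSeparated y] {c : X ⟶ P} [IsClosedImmersion c]
  {ι : Type u} {V : ι → P.Opens} [T : TangentStr (defFunctor (Λ := k) X (xk k X))]

variable (hc : c ≫ y = xk k X) (hcov : ∀ p : X, ∃ i, c p ∈ V i) (hL : HasLifts k y c (pU c V))

include hL in
theorem exists_inRel (t : (defFunctor (Λ := k) X (xk k X)).obj (Art.dual k k)) :
    ∃ (α : omP y c ⟶ Zc (pU c V)) (φ : EqFun c (pU c V)), InRel t α φ := by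
  obtain ⟨ξ, rfl⟩ := cl_surjective t
  let L : ∀ i, LiftF y c (ofSch ξ) (pU c V i) := fun i => (hL _ ξ i).some
  obtain ⟨α, hα⟩ := exists_delta L
  obtain ⟨φ, hφ⟩ := exists_phi L
  exact ⟨α, φ, ofSch ξ, L, cl_toDefSch_ofSch ξ, hα, hφ⟩

include hL in
theorem inRel_add {t₁ t₂ : TangentSpace (defFunctor (Λ := k) X (xk k X))} {α₁ α₂ : omP y c ⟶ Zc (pU c V)}
    {φ₁ φ₂ : EqFun c (pU c V)} (h₁ : InRel t₁.val α₁ φ₁) (h₂ : InRel t₂.val α₂ φ₂) :
    InRel (t₁ + t₂).val (α₁ + α₂) (φ₁ + φ₂) := by
  obtain ⟨z, hz₁, hz₂⟩ := ArtFunLib.exists_pair (h0_defFunctor (Λ := k) (x := xk k X))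
    (heps_defFunctor (Λ := k) (x := xk k X)) t₁.val t₂.val
  have e : t₁ + t₂ = TangentSpace.mk ((defFunctor X (xk k X)).map Art.plus z) := by
    rw [← ArtFunLib.tangent_add_eq z, hz₁, hz₂]
    rfl
  rw [e]
  exact InRel.add hL h₁ h₂ z hz₁ hz₂

theorem inRel_smul (s : k) {t : TangentSpace (defFunctor (Λ := k) X (xk k X))} {α : omP y c ⟶ Zc (pU c V)}
    {φ : EqFun c (pU c V)} (h : InRel t.val α φ) :
    InRel (s • t).val (s • α) (fun W i r => algΓ k _ s * φ W i r) := by
  rw [show s • t = TangentSpace.mk ((defFunctor X (xk k X)).map (Art.scale s) t.val) from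
    ArtFunLib.tangent_smul_eq s t.val]
  exact InRel.smul s h

include hL in
theorem inRel_zero : InRel (0 : TangentSpace (defFunctor (Λ := k) X (xk k X))).val
    (0 : omP y c ⟶ Zc (pU c V)) (0 : EqFun c (pU c V)) := by
  obtain ⟨ξ, -⟩ := cl_surjective (X := X) (x := xk k X) (triv k X (Art.dual k k)).cl
  obtain ⟨α, φ, h⟩ := exists_inRel hL ξ.cl
  have h' := inRel_smul (T := T) 0 (t := TangentSpace.mk ξ.cl) h
  rw [zero_smul, zero_smul] at h'
  have e : (fun W i r => algΓ k (c ⁻¹ᵁ W ⊓ pU c V i) 0 * φ W i r : EqFun c (pU c V)) = 0 :=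
    funext fun W => funext fun i => funext fun r => by rw [map_zero, zero_mul]; rfl
  rwa [e] at h'

include hc hcov hL in
theorem eq_zero_of_inRel {t : TangentSpace (defFunctor (Λ := k) X (xk k X))}
    (h : InRel t.val (0 : omP y c ⟶ Zc (pU c V)) (0 : EqFun c (pU c V))) : t = 0 := by
  have key : ∀ {s : (defFunctor (Λ := k) X (xk k X)).obj (Art.dual k k)},
      InRel s (0 : omP y c ⟶ Zc (pU c V)) (0 : EqFun c (pU c V)) → s = (triv k X (Art.dual k k)).cl := by
    rintro s ⟨E, L, rfl, hα, hφ⟩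
    let ψ : PHom (𝟙 _) E (ofSch E.toDefSch) := phomOfIso (counit E.toDefSch)
    let L' : ∀ i, LiftF y c (ofSch E.toDefSch) (c ⁻¹ᵁ V i) := fun i => (L i).push ψ
    refine cl_ofSch_eq_triv L' (fun i j W s => ?_) (fun i W T hT hW s hs => ?_) hcov hc
    · exact (dv_push ψ _ _ W s).trans (dv_eq_zero hα i j W s)
    · show (ψ.app.app (op T)).hom _ = 0
      rw [← hφ W i ⟨s, hs⟩ T (le_inf hW hT)]
      show (ψ.app.app (op T)).hom (ins E deps T (rs _ (0 : Γ(X, _)))) = 0
      rw [map_zero, ins_zero deps_small, map_zero]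
  exact (key h).trans (key (inRel_zero (T := T) hL)).symm

include hc hcov hL in
/-- The tangent space is finite dimensional. -/
theorem finite_tangent_aux [IsProper (xk k X)] [Smooth y] [IsLocallyNoetherian P] [HasExt.{u} X.Modules] :
    Module.Finite k (TangentSpace (defFunctor (Λ := k) X (xk k X))) := by
  have hU : iSup (pU c V) = ⊤ := top_unique fun p _ => by
    obtain ⟨i, hi⟩ := hcov p
    exact Opens.mem_iSup.2 ⟨i, hi⟩
  let R : Submodule k (TangentSpace (defFunctor (Λ := k) X (xk k X)) × (omP y c ⟶ Zc (pU c V))) :=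
    { carrier := {x | ∃ φ, InRel x.1.val x.2 φ}
      add_mem' := fun {a b} ⟨φ, h⟩ ⟨φ', h'⟩ => ⟨φ + φ', inRel_add (T := T) hL h h'⟩
      zero_mem' := ⟨0, inRel_zero (T := T) hL⟩
      smul_mem' := fun s a ⟨φ, h⟩ => ⟨_, inRel_smul (T := T) s h⟩ }
  let Q : Submodule k (TangentSpace (defFunctor (Λ := k) X (xk k X)) ×
      ((Scheme.Modules.pullback c).obj (Ic c) ⟶ Coh.structureModule X)) :=
    { carrier := {x | ∃ φ, InRel x.1.val (0 : omP y c ⟶ Zc (pU c V)) φ ∧
        ∀ W i σ, rs inf_le_left (homVal x.2 W σ) = φ W i (eqn c σ)}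
      add_mem' := fun {a b} ⟨φ, h, e⟩ ⟨φ', h', e'⟩ => ⟨φ + φ', by
        have := inRel_add (T := T) hL h h'
        rwa [add_zero] at this, fun W i σ => by
        show rs inf_le_left (homVal (a.2 + b.2) W σ) = _
        rw [homVal_add, map_add, e, e']
        rfl⟩
      zero_mem' := ⟨0, inRel_zero (T := T) hL, fun W i σ => by
        show rs inf_le_left (homVal 0 W σ) = _
        rw [homVal_apply]
        exact map_zero _⟩
      smul_mem' := fun s a ⟨φ, h, e⟩ => ⟨fun W i r => algΓ k _ s * φ W i r, by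
        have := inRel_smul (T := T) s h
        rwa [smul_zero] at this, fun W i σ => by
        show rs inf_le_left (homVal (s • a.2) W σ) = _
        rw [homVal_smul, map_mul, rs_algΓ, e]⟩ }
  haveI := finite_hom_ideal (k := k) (c := c)
  haveI : Module.Finite k Q := by
    refine Module.Finite.of_injective ((LinearMap.snd k _ _).comp Q.subtype) ?_
    rw [← LinearMap.ker_eq_bot, LinearMap.ker_eq_bot']
    rintro ⟨⟨t, η⟩, φ, h, e⟩ (rfl : η = 0)
    have hφ : φ = 0 := funext fun W => funext fun i => funext fun r => by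
      obtain ⟨σ, hσ⟩ := exists_ι_eq r.2
      obtain rfl : eqn c σ = r := Subtype.ext hσ
      rw [← e W i σ]
      show rs inf_le_left (homVal 0 W σ) = 0
      rw [homVal_apply]
      exact map_zero _
    subst hφ
    exact Subtype.ext (Prod.ext (eq_zero_of_inRel (T := T) hc hcov hL h) rfl)
  haveI := finite_ext (k := k) (y := y) (c := c)
  let μ : R →ₗ[k] Ext.{u} (omP y c) (Coh.structureModule X) 1 :=
    (kap (k := k) (pU c V) (omP y c) hU).comp ((LinearMap.snd k _ _).comp R.subtype)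
  let pr : R →ₗ[k] TangentSpace (defFunctor (Λ := k) X (xk k X)) := (LinearMap.fst k _ _).comp R.subtype
  have hpr : Function.Surjective pr := fun t => by
    obtain ⟨α, φ, h⟩ := exists_inRel hL t.val
    exact ⟨⟨(t, α), φ, h⟩, rfl⟩
  let K := (LinearMap.fst k _ _).comp Q.subtype
  have hK : (LinearMap.ker μ).map pr ≤ LinearMap.range K := by
    rintro _ ⟨⟨⟨t, α⟩, φ, h⟩, hμ, rfl⟩
    obtain ⟨β, rfl⟩ := exists_of_kap_eq_zero (k := k) (pU c V) (omP y c) hU (α := α) hμ
    obtain ⟨φ', h'⟩ := exists_modify h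
    obtain ⟨E, L, hE, hα, hφ'⟩ := id h'
    obtain ⟨η, hη⟩ := exists_hom hφ' (dv_eq_zero hα) hU
    exact ⟨⟨(t, η), φ', h', hη⟩, rfl⟩
  rw [Module.finite_def, ← LinearMap.range_eq_top.2 hpr, LinearMap.range_eq_map]
  refine Submodule.fg_of_fg_map_of_fg_inf_ker ((LinearMap.range K).mkQ) ?_ ?_
  · rw [← Submodule.map_comp, ← LinearMap.range_eq_map]
    have hle : LinearMap.ker μ ≤ LinearMap.ker ((LinearMap.range K).mkQ.comp pr) := fun r hr => by
      rw [LinearMap.mem_ker, LinearMap.comp_apply, Submodule.mkQ_apply, Submodule.Quotient.mk_eq_zero]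
      exact hK ⟨r, hr, rfl⟩
    haveI : Module.Finite k (R ⧸ LinearMap.ker μ) := Module.Finite.equiv μ.quotKerEquivRange.symm
    rw [← (Submodule.range_liftQ _ _ hle : _ = LinearMap.range ((LinearMap.range K).mkQ.comp pr))]
    exact Module.Finite.iff_fg.1 (Module.Finite.range _)
  · rw [Submodule.ker_mkQ, Submodule.map_top, LinearMap.range_eq_top.2 hpr, top_inf_eq]
    exact Module.Finite.iff_fg.1 (Module.Finite.range K)

omit [QuasiSeparated (xk k X)] in
theorem finite_tangent [IsProper (xk k X)] [Smooth y] [IsSeparated y] (hc : c ≫ y = xk k X) :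
    Module.Finite k (TangentSpace (defFunctor (Λ := k) X (xk k X))) := by
  haveI : HasExt.{u} X.Modules := IsGrothendieckAbelian.hasExt _
  haveI : IsLocallyNoetherian P := LocallyOfFiniteType.isLocallyNoetherian y
  haveI : CompactSpace X := (quasiCompact_iff_compactSpace (xk k X)).1 inferInstance
  choose V hV hpV using fun p : X => (exists_isAffineOpen_mem_and_subset (x := c p) (U := (⊤ : P.Opens))
    (Opens.mem_top _))
  refine finite_tangent_aux (V := V) (T := T) hc (fun p => ⟨p, (hpV p).1⟩) fun A ξ p => ?_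
  exact exists_liftF hc (hV p) ((hV p).preimage c) ξ

end Groth.Agent.DefFin29
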